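import Cfsg.Agent.HNPres.Group
import Cfsg.Agent.HNRep.Relators

/-!
The subgroup on x, y, z of the presented Harada-Norton group contains with index two the double cover of the
Higman-Sims group.
-/

set_option autoImplicit false
set_option Elab.async false

namespace Cfsg.Lib.HNPres

open Cfsg.Lib.CosetNames Cfsg.Lib.HNRep
open scoped commutatorElement

/-- The free generators. -/
def fLetters : ℕ → FreeGroup (Fin 3) := letters (FreeGroup.of 0) (FreeGroup.of 1) (FreeGroup.of 2)

/-- The relators as free words. -/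
def rels0 : Set (FreeGroup (Fin 3)) := {r | ∃ w ∈ baseZ, wval fLetters w = r}

/-- The group with the relators on x, y, z alone. -/
abbrev N0 : Type := PresentedGroup rels0

/-- The three generators. -/
def n0 (i : Fin 3) : N0 := PresentedGroup.of i

theorem n0_rels : ∀ r ∈ baseZ, wval (letters (n0 0) (n0 1) (n0 2)) r = 1 := by
  intro r hr
  have h : wval fLetters r ∈ rels0 := ⟨r, hr, rfl⟩
  have e := PresentedGroup.one_of_mem h
  rw [map_wval] at e
  rw [← e]
  exact wval_congr fun l _ => by rw [fLetters, map_letters]; rfl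

theorem lift_rels {G : Type*} [Group G] {a b c : G} (h : ∀ r ∈ baseZ, wval (letters a b c) r = 1) :
    ∀ r ∈ rels0, FreeGroup.lift ![a, b, c] r = 1 := by
  rintro _ ⟨w, hw, rfl⟩
  rw [map_wval, ← h w hw]
  exact wval_congr fun l _ => by rw [fLetters, map_letters]; simp

/-- The map given by three elements satisfying the relators. -/
def homN0 {G : Type*} [Group G] {a b c : G} (h : ∀ r ∈ baseZ, wval (letters a b c) r = 1) : N0 →* G :=
  PresentedGroup.toGroup (lift_rels h)

theorem homN0_of {G : Type*} [Group G] {a b c : G} (h : ∀ r ∈ baseZ, wval (letters a b c) r = 1) :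
    homN0 h (n0 0) = a ∧ homN0 h (n0 1) = b ∧ homN0 h (n0 2) = c :=
  ⟨PresentedGroup.toGroup.of (lift_rels h), PresentedGroup.toGroup.of (lift_rels h),
    PresentedGroup.toGroup.of (lift_rels h)⟩

theorem top_n0 : Subgroup.closure {n0 0, n0 1, n0 2} = ⊤ := by
  rw [← PresentedGroup.closure_range_of rels0]
  congr 1
  ext g
  constructor
  · rintro (rfl | rfl | rfl) <;> exact ⟨_, rfl⟩
  · rintro ⟨i, rfl⟩
    fin_cases i <;> simp [n0]

/-- The relators of the presented group. -/
abbrev hnRels : Set (FreeGroup Cfsg.Spor.HN.Gen) :=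
  Cfsg.Spor.coxRelators Cfsg.Spor.HN.edges ∪ {r | r ∈ Cfsg.Spor.HN.extra}

/-- The image of a generator. -/
def hnGen (g : Cfsg.Spor.HN.Gen) : Cfsg.Spor.HN := PresentedGroup.of g

/-- The printed relators give the word relators. -/
theorem base_of_printed {G : Type*} [Group G] {x y z : G} (h0 : y ^ 6 = 1)
    (h1 : x ^ 2 * y * x ^ 2 * y⁻¹ = 1) (h2 : (x⁻¹ * y⁻¹ * x * y) ^ 3 = 1)
    (h3 : (x⁻¹ * y ^ 2 * x * y ^ 3) ^ 3 = 1) (h4 : (x * y) ^ 8 = 1) (h5 : (x * y * x * y ^ 3) ^ 4 = 1)
    (h6 : z ^ 2 = 1) (h7 : (z * x) ^ 2 = 1)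
    (h8 : z⁻¹ * (y * x * y * x * y ^ 2 * x * y⁻¹)⁻¹ * z * (y * x * y * x * y ^ 2 * x * y⁻¹) * (x ^ 2)⁻¹ = 1)
    (h9 : z * ((y ^ 3 * x * y * x * y)⁻¹ * z * (y ^ 3 * x * y * x * y) * x) ^ 3 = 1) :
    ∀ r ∈ baseZ, wval (letters x y z) r = 1 := by
  have hzi : z⁻¹ = z := inv_eq_of_mul_eq_one_left (by rw [← pow_two]; exact h6)
  simp only [baseZ, List.forall_mem_cons]
  refine ⟨?_, ?_, ?_, ?_, ?_, ?_, ?_, ?_, ?_, ?_, by simp⟩
  · simpa [wval, letters, pow_succ, mul_assoc] using h0
  · simpa [wval, letters, pow_succ, mul_assoc] using h1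
  · simpa [wval, letters, pow_succ, mul_assoc] using h2
  · simpa [wval, letters, pow_succ, mul_assoc] using h3
  · simpa [wval, letters, pow_succ, mul_assoc] using h4
  · simpa [wval, letters, pow_succ, mul_assoc] using h5
  · simpa [wval, letters, pow_succ, mul_assoc] using h6
  · simpa [wval, letters, pow_succ, mul_assoc] using h7
  · simpa [wval, letters, pow_succ, mul_assoc, mul_inv_rev, hzi] using h8
  · simpa [wval, letters, pow_succ, mul_assoc, mul_inv_rev] using h9

theorem hn_rels : ∀ r ∈ baseZ, wval (letters (hnGen .x) (hnGen .y) (hnGen .z)) r = 1 := by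
  have hm : ∀ r ∈ Cfsg.Spor.HN.extra, (PresentedGroup.mk hnRels) r = 1 := fun r hr =>
    PresentedGroup.one_of_mem (Or.inr hr)
  simp only [Cfsg.Spor.HN.extra, List.forall_mem_cons, map_mul, map_pow, map_inv] at hm
  obtain ⟨h0, h1, h2, h3, h4, h5, h6, h7, h8, h9, -⟩ := hm
  exact base_of_printed h0 h1 h2 h3 h4 h5 h6 h7 h8 h9

/-- The data for the bound. -/
@[reducible] def setup0 : Setup N0 where
  x := n0 0
  y := n0 1
  z := n0 2
  base := n0_rels
  psi := psi.comp (homN0 hn_rels)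
  hx := by rw [MonoidHom.comp_apply, (homN0_of hn_rels).1, hnGen, psi_of, mX]
  hy := by rw [MonoidHom.comp_apply, (homN0_of hn_rels).2.1, hnGen, psi_of, mY]
  hz := by rw [MonoidHom.comp_apply, (homN0_of hn_rels).2.2, hnGen, psi_of, mZ]

theorem card_N0 : Finite N0 ∧ Nat.card N0 ≤ 532224000 := setup0.card_top (show Subgroup.closure {n0 0, n0 1, n0 2} = ⊤ from top_n0)

theorem hn_x_sq : homN0 hn_rels (n0 0 ^ 2) ≠ 1 := by
  intro e
  rw [map_pow, (homN0_of hn_rels).1] at e
  have e' : psi (hnGen .x) ^ 2 = 1 := by rw [← map_pow, e, map_one]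
  refine x_sq_ne_one ?_
  rw [map_pow]
  exact e'

/-- The action on 100 points. -/
def act0 : N0 →* Equiv.Perm (Fin 100) := homN0 perm_rels

theorem act0_range : act0.range = Cfsg.Lib.HSModel.toP.range := by
  obtain ⟨e0, e1, e2⟩ := homN0_of perm_rels
  rw [MonoidHom.range_eq_map, ← top_n0, MonoidHom.map_closure, ← closure_pgens]
  simp [Set.image_insert_eq, act0, e0, e1, e2]

/-- The parity. -/
def par0 : N0 →* ℤˣ := Equiv.Perm.sign.comp act0

/-- The even part. -/
def K0 : Subgroup N0 := par0.ker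

theorem gens_K0 : n0 0 ∈ K0 ∧ n0 1 ∈ K0 ∧ n0 2 ∉ K0 := by
  obtain ⟨e0, e1, e2⟩ := homN0_of perm_rels
  simp [K0, par0, act0, e0, e1, e2, perm_sign]

theorem conj_mem_K0 : n0 2 * n0 1 * n0 2 ∈ K0 := by
  obtain ⟨-, hy, -⟩ := gens_K0
  have h : par0 (n0 2 * n0 1 * n0 2) = 1 := by
    rw [map_mul, map_mul, MonoidHom.mem_ker.1 hy, mul_one, Int.units_mul_self]
  exact h

theorem perfect_K0 : ⁅K0, K0⁆ = K0 := by
  have hcl : ∀ g ∈ K0, ∀ H : Subgroup N0, H ≤ K0 → n0 0 ∈ H → n0 1 ∈ H → n0 2 * n0 1 * n0 2 ∈ H → g ∈ H := by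
    intro g hg H hH hx hy hy'
    refine (closure_three setup0 (g := g) (show g ∈ Subgroup.closure {n0 0, n0 1, n0 2} from top_n0 ▸ Subgroup.mem_top g) H hx hy hy').resolve_right fun h => ?_
    have : n0 2 ∈ K0 := by
      have := mul_mem (inv_mem hg) (hH h)
      rwa [inv_mul_cancel_left] at this
    exact gens_K0.2.2 this
  haveI : K0.Normal := MonoidHom.normal_ker _
  haveI : (⁅K0, K0⁆ : Subgroup N0).Normal := Subgroup.commutator_normal _ _
  let q := QuotientGroup.mk' (⁅K0, K0⁆ : Subgroup N0)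
  have hr : ∀ r ∈ baseZ, wval (letters (q (n0 0)) (q (n0 1)) (q (n0 2))) r = 1 := by
    intro r hr
    have := congrArg q (n0_rels r hr)
    rw [map_one, map_wval] at this
    rw [← this]
    exact wval_congr fun l _ => by rw [map_letters]
  have hc : Commute (q (n0 0)) (q (n0 1)) := by
    rw [← commutatorElement_eq_one_iff_commute, ← map_commutatorElement]
    exact (QuotientGroup.eq_one_iff _).2 (Subgroup.commutator_mem_commutator gens_K0.1 gens_K0.2.1)
  obtain ⟨h1, h2⟩ := abelian_trivial hr hc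
  have hle : (⁅K0, K0⁆ : Subgroup N0) ≤ K0 := Subgroup.commutator_le_right _ _
  refine le_antisymm hle fun g hg => hcl g hg _ hle ((QuotientGroup.eq_one_iff _).1 h1)
    ((QuotientGroup.eq_one_iff _).1 h2) ((QuotientGroup.eq_one_iff _).1 ?_)
  show q (n0 2 * n0 1 * n0 2) = 1
  rw [map_mul, map_mul, h2, mul_one, ← map_mul]
  have := setup0.z_sq
  simp only [setup0] at this
  rw [this, map_one]

theorem perfect_K0' : commutator K0 = ⊤ := by
  apply Subgroup.map_injective K0.subtype_injective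
  rw [Subgroup.map_subtype_commutator, perfect_K0, ← MonoidHom.range_eq_map, Subgroup.range_subtype]

/-- The action of the even part. -/
noncomputable def act1 : K0 →* Cfsg.Lib.HSModel.grp :=
  (act0.comp K0.subtype).codRestrict _ fun g =>
    ⟨(act0_range ▸ ⟨g.1, rfl⟩ : act0 g.1 ∈ Cfsg.Lib.HSModel.toP.range), g.2⟩

theorem act1_surj : Function.Surjective act1 := by
  rintro ⟨p, hp, hp1⟩
  obtain ⟨g, rfl⟩ : p ∈ act0.range := act0_range ▸ hp
  exact ⟨⟨g, hp1⟩, Subtype.ext rfl⟩

theorem card_ker1 : Nat.card act1.ker ≤ 6 := by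
  haveI := card_N0.1
  have h : Nat.card act0.ker * 88704000 = Nat.card N0 := by
    rw [← Cfsg.Lib.HSModel.card_range, ← act0_range, ← Subgroup.index_ker, Subgroup.card_mul_index]
  have h6 : Nat.card act0.ker ≤ 6 := by
    have := card_N0.2
    omega
  refine (Nat.card_le_card_of_injective (fun g : act1.ker => (⟨g.1.1, ?_⟩ : act0.ker)) ?_).trans h6
  · exact congrArg Subtype.val g.2
  · intro a b e
    exact Subtype.ext (Subtype.ext (congrArg (fun c : act0.ker => c.1) e))

theorem x_sq_K0 : (⟨n0 0 ^ 2, pow_mem gens_K0.1 2⟩ : K0) ∈ Subgroup.center K0 ∧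
    (⟨n0 0 ^ 2, pow_mem gens_K0.1 2⟩ : K0) ∈ act1.ker ∧ (⟨n0 0 ^ 2, pow_mem gens_K0.1 2⟩ : K0) ≠ 1 := by
  refine ⟨?_, ?_, ?_⟩
  · rw [Subgroup.mem_center_iff]
    intro g
    apply Subtype.ext
    show (g : N0) * n0 0 ^ 2 = n0 0 ^ 2 * g
    have hg : (g : N0) ∈ Subgroup.centralizer {n0 0 ^ 2} := by
      refine ((Subgroup.closure_le _).2 ?_) (top_n0 ▸ Subgroup.mem_top (g : N0))
      rintro t (rfl | rfl | rfl) <;> rw [SetLike.mem_coe, Subgroup.mem_centralizer_singleton_iff]
      · exact ((Commute.refl (n0 0)).pow_left 2).eq.symm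
      · exact ((show n0 0 ^ 2 * n0 1 = n0 1 * n0 0 ^ 2 from setup0.sq_y)).symm
      · exact ((show n0 0 ^ 2 * n0 2 = n0 2 * n0 0 ^ 2 from setup0.sq_z)).symm
    exact Subgroup.mem_centralizer_singleton_iff.1 hg
  · apply Subtype.ext
    show act0 (n0 0 ^ 2) = 1
    rw [map_pow, act0, (homN0_of perm_rels).1]
    decide +kernel
  · intro e
    refine hn_x_sq ?_
    rw [show n0 0 ^ 2 = 1 from congrArg Subtype.val e, map_one]

theorem cover_K0 : Cfsg.IsNonsplitDoubleCover K0 ↥Cfsg.Spor.HS := by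
  haveI := card_N0.1
  obtain ⟨h1, h2, h3⟩ := x_sq_K0
  exact nonsplit_cover act1 act1_surj perfect_K0' card_ker1 h1 h2 h3

theorem homN0_injective : Function.Injective (homN0 hn_rels) := by
  haveI := card_N0.1
  haveI := Cfsg.Lib.HSModel.Cov.grp_simple
  rw [← MonoidHom.ker_eq_bot_iff, eq_bot_iff]
  intro g hg
  set f := homN0 hn_rels
  set J := (f.comp K0.subtype).ker
  obtain ⟨h1, h2, h3⟩ := x_sq_K0
  have hx2 : f (n0 0 ^ 2) ≠ 1 := hn_x_sq
  have hM : act1.ker ≤ Subgroup.center K0 := ker_central act1 act1_surj card_ker1 h1 h2 h3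
  have hJ : J = ⊥ := by
    haveI : (J.map act1).Normal := Subgroup.Normal.map inferInstance _ act1_surj
    rcases IsSimpleGroup.eq_bot_or_eq_top_of_normal (J.map act1) inferInstance with h | h
    · have hle : J ≤ act1.ker := (Subgroup.map_eq_bot_iff _).1 h
      have hk2 : Nat.card act1.ker = 2 := by
        have hc := cover_K0.1
        have : act1.ker = Subgroup.center K0 := by
          refine le_antisymm hM fun c hc' => ?_
          rw [MonoidHom.mem_ker]
          refine Subtype.ext (Cfsg.Lib.HSModel.cent_trivial fun p hp => ?_)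
          obtain ⟨k, hk⟩ := act1_surj ⟨p, hp⟩
          have := congrArg act1 (Subgroup.mem_center_iff.1 hc' k)
          rw [map_mul, map_mul, hk] at this
          exact (congrArg Subtype.val this).symm
        rwa [this]
      rw [eq_bot_iff]
      intro a ha
      by_contra hne
      have htwo := (Nat.card_eq_two_iff' (1 : act1.ker)).1 hk2
      have hu := htwo.unique (y₁ := ⟨a, hle ha⟩) (y₂ := ⟨_, h2⟩) (fun e => hne (congrArg Subtype.val e))
        (fun e => h3 (congrArg Subtype.val e))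
      apply hx2
      have e : a = ⟨n0 0 ^ 2, pow_mem gens_K0.1 2⟩ := congrArg Subtype.val hu
      rw [e] at ha
      exact MonoidHom.mem_ker.1 ha
    · exfalso
      have htop : J = ⊤ := by
        rw [eq_top_iff, ← perfect_K0', commutator_def, Subgroup.commutator_le]
        rintro a - b -
        obtain ⟨a', ha', hea⟩ : act1 a ∈ J.map act1 := h ▸ Subgroup.mem_top _
        obtain ⟨b', hb', heb⟩ : act1 b ∈ J.map act1 := h ▸ Subgroup.mem_top _
        have ca : a'⁻¹ * a ∈ Subgroup.center K0 := hM (by simp [hea])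
        have cb : b'⁻¹ * b ∈ Subgroup.center K0 := hM (by simp [heb])
        have hJn : J.Normal := MonoidHom.normal_ker _
        have : ∀ c : K0, ∀ j ∈ J, c * j * c⁻¹ ∈ J := fun c j hj => hJn.conj_mem j hj c
        have qa : ∀ u : K0, (QuotientGroup.mk' J) (a'⁻¹ * a) * (QuotientGroup.mk' J) u =
            (QuotientGroup.mk' J) u * (QuotientGroup.mk' J) (a'⁻¹ * a) := fun u => by
          rw [← map_mul, ← map_mul, Subgroup.mem_center_iff.1 ca u]
        have ea : (QuotientGroup.mk' J) a = (QuotientGroup.mk' J) (a'⁻¹ * a) := by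
          rw [map_mul, map_inv, (QuotientGroup.eq_one_iff a').2 ha' |> fun e => (show (QuotientGroup.mk' J) a' = 1 from e),
            inv_one, one_mul]
        rw [← QuotientGroup.eq_one_iff]
        show (QuotientGroup.mk' J) ⁅a, b⁆ = 1
        rw [map_commutatorElement, commutatorElement_eq_one_iff_mul_comm, ea]
        exact qa b
      have hin : (⟨n0 0 ^ 2, pow_mem gens_K0.1 2⟩ : K0) ∈ J := by
        rw [htop]
        exact Subgroup.mem_top _
      exact hx2 (MonoidHom.mem_ker.1 hin)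
  have hgK : g ∈ K0 := by
    by_contra hgK
    have hcomm : ∀ k : K0, g * k * g⁻¹ * (k : N0)⁻¹ = 1 := by
      intro k
      haveI : K0.Normal := MonoidHom.normal_ker _
      have hm : g * k * g⁻¹ * (k : N0)⁻¹ ∈ K0 := mul_mem (Subgroup.Normal.conj_mem ‹_› _ k.2 g) (inv_mem k.2)
      have hj : (⟨_, hm⟩ : K0) ∈ J := by
        rw [MonoidHom.mem_ker]
        show f (g * k * g⁻¹ * (k : N0)⁻¹) = 1
        rw [map_mul, map_mul, map_mul, map_inv, map_inv, MonoidHom.mem_ker.1 hg]
        group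
      rw [hJ, Subgroup.mem_bot] at hj
      exact congrArg Subtype.val hj
    have hc : act0 g = 1 := by
      refine Cfsg.Lib.HSModel.cent_trivial fun p hp => ?_
      obtain ⟨k, hk⟩ := act1_surj ⟨p, hp⟩
      have e := congrArg act0 (mul_inv_eq_one.1 (hcomm k))
      rw [map_mul, map_mul, map_inv] at e
      have hk' : act0 k = p := congrArg Subtype.val hk
      rw [hk', mul_inv_eq_iff_eq_mul] at e
      exact e
    exact hgK (by show par0 g = 1; simp [par0, hc])
  have : (⟨g, hgK⟩ : K0) ∈ J := hg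
  rw [hJ, Subgroup.mem_bot] at this
  exact congrArg Subtype.val this

theorem range_homN0 : (homN0 hn_rels).range = (Subgroup.closure ({Cfsg.Spor.HN.x, Cfsg.Spor.HN.y, Cfsg.Spor.HN.z} :
    Set (FreeGroup Cfsg.Spor.HN.Gen))).map (PresentedGroup.mk hnRels) := by
  obtain ⟨e0, e1, e2⟩ := homN0_of hn_rels
  rw [MonoidHom.range_eq_map, ← top_n0, MonoidHom.map_closure, MonoidHom.map_closure]
  simp [Set.image_insert_eq, e0, e1, e2]
  rfl

end Cfsg.Lib.HNPres
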