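import Cfsg.Agent.HNPres.Rel5Data

/-!
The certificate is valid.
-/

set_option autoImplicit false

namespace Cfsg.Lib.HNPres.Rel5

open Cfsg.Lib.CosetNames

set_option Elab.async false

theorem steps0_ok : cert.stepsOK 0 steps0 = true ∧ ruleBound spec.length steps0 = true := by decide +kernel

theorem steps1_ok : cert.stepsOK 256 steps1 = true ∧ ruleBound spec.length steps1 = true := by decide +kernel

theorem steps2_ok : cert.stepsOK 512 steps2 = true ∧ ruleBound spec.length steps2 = true := by decide +kernel

def cat0 : List (ℕ × ℕ) := steps0 ++ steps1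

theorem cat0_ok : cert.stepsOK 0 cat0 = true ∧ ruleBound spec.length cat0 = true :=
  stepsOK_cat steps0_ok steps1_ok (by decide +kernel)

def cat1 : List (ℕ × ℕ) := cat0 ++ steps2

theorem cat1_ok : cert.stepsOK 0 cat1 = true ∧ ruleBound spec.length cat1 = true :=
  stepsOK_cat cat0_ok steps2_ok (by decide +kernel)

theorem spec_ok : cert.rotsOK rels spec = true := by decide +kernel

theorem trace_ok : cert.walk cat1.length trace 0 0 = some (0, wcode target) := by decide +kernel

theorem target_mem {G : Type*} [Group G] (im : ℕ → G) {K : Subgroup G} (hinv : cert.InvOK im)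
    (hR : ∀ r ∈ rels, wval im r = 1) (hsub : ∀ s ∈ cert.subs, wval im s ∈ K) : wval im target ∈ K :=
  word_mem cert im (by decide) hinv spec_ok cat1_ok hR hsub (by decide) trace_ok

end Cfsg.Lib.HNPres.Rel5
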