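import Cfsg.Agent.HNPres.RelK1Data

/-!
The certificate is valid.
-/

set_option autoImplicit false

namespace Cfsg.Lib.HNPres.RelK1

open Cfsg.Lib.CosetNames

set_option Elab.async false

theorem steps0_ok : cert.stepsOK 0 steps0 = true ∧ ruleBound spec.length steps0 = true := by decide +kernel

theorem steps1_ok : cert.stepsOK 256 steps1 = true ∧ ruleBound spec.length steps1 = true := by decide +kernel

theorem steps2_ok : cert.stepsOK 512 steps2 = true ∧ ruleBound spec.length steps2 = true := by decide +kernel

theorem steps3_ok : cert.stepsOK 768 steps3 = true ∧ ruleBound spec.length steps3 = true := by decide +kernel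

theorem steps4_ok : cert.stepsOK 1024 steps4 = true ∧ ruleBound spec.length steps4 = true := by decide +kernel

theorem steps5_ok : cert.stepsOK 1280 steps5 = true ∧ ruleBound spec.length steps5 = true := by decide +kernel

theorem steps6_ok : cert.stepsOK 1536 steps6 = true ∧ ruleBound spec.length steps6 = true := by decide +kernel

theorem steps7_ok : cert.stepsOK 1792 steps7 = true ∧ ruleBound spec.length steps7 = true := by decide +kernel

theorem steps8_ok : cert.stepsOK 2048 steps8 = true ∧ ruleBound spec.length steps8 = true := by decide +kernel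

theorem steps9_ok : cert.stepsOK 2304 steps9 = true ∧ ruleBound spec.length steps9 = true := by decide +kernel

theorem steps10_ok : cert.stepsOK 2560 steps10 = true ∧ ruleBound spec.length steps10 = true := by decide +kernel

theorem steps11_ok : cert.stepsOK 2816 steps11 = true ∧ ruleBound spec.length steps11 = true := by decide +kernel

theorem steps12_ok : cert.stepsOK 3072 steps12 = true ∧ ruleBound spec.length steps12 = true := by decide +kernel

theorem steps13_ok : cert.stepsOK 3328 steps13 = true ∧ ruleBound spec.length steps13 = true := by decide +kernel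

theorem steps14_ok : cert.stepsOK 3584 steps14 = true ∧ ruleBound spec.length steps14 = true := by decide +kernel

theorem steps15_ok : cert.stepsOK 3840 steps15 = true ∧ ruleBound spec.length steps15 = true := by decide +kernel

theorem steps16_ok : cert.stepsOK 4096 steps16 = true ∧ ruleBound spec.length steps16 = true := by decide +kernel

theorem steps17_ok : cert.stepsOK 4352 steps17 = true ∧ ruleBound spec.length steps17 = true := by decide +kernel

theorem steps18_ok : cert.stepsOK 4608 steps18 = true ∧ ruleBound spec.length steps18 = true := by decide +kernel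

theorem steps19_ok : cert.stepsOK 4864 steps19 = true ∧ ruleBound spec.length steps19 = true := by decide +kernel

theorem steps20_ok : cert.stepsOK 5120 steps20 = true ∧ ruleBound spec.length steps20 = true := by decide +kernel

theorem steps21_ok : cert.stepsOK 5376 steps21 = true ∧ ruleBound spec.length steps21 = true := by decide +kernel

theorem steps22_ok : cert.stepsOK 5632 steps22 = true ∧ ruleBound spec.length steps22 = true := by decide +kernel

theorem steps23_ok : cert.stepsOK 5888 steps23 = true ∧ ruleBound spec.length steps23 = true := by decide +kernel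

theorem steps24_ok : cert.stepsOK 6144 steps24 = true ∧ ruleBound spec.length steps24 = true := by decide +kernel

theorem steps25_ok : cert.stepsOK 6400 steps25 = true ∧ ruleBound spec.length steps25 = true := by decide +kernel

theorem steps26_ok : cert.stepsOK 6656 steps26 = true ∧ ruleBound spec.length steps26 = true := by decide +kernel

theorem steps27_ok : cert.stepsOK 6912 steps27 = true ∧ ruleBound spec.length steps27 = true := by decide +kernel

theorem steps28_ok : cert.stepsOK 7168 steps28 = true ∧ ruleBound spec.length steps28 = true := by decide +kernel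

theorem steps29_ok : cert.stepsOK 7424 steps29 = true ∧ ruleBound spec.length steps29 = true := by decide +kernel

theorem steps30_ok : cert.stepsOK 7680 steps30 = true ∧ ruleBound spec.length steps30 = true := by decide +kernel

theorem steps31_ok : cert.stepsOK 7936 steps31 = true ∧ ruleBound spec.length steps31 = true := by decide +kernel

theorem steps32_ok : cert.stepsOK 8192 steps32 = true ∧ ruleBound spec.length steps32 = true := by decide +kernel

theorem steps33_ok : cert.stepsOK 8448 steps33 = true ∧ ruleBound spec.length steps33 = true := by decide +kernel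

theorem steps34_ok : cert.stepsOK 8704 steps34 = true ∧ ruleBound spec.length steps34 = true := by decide +kernel

theorem steps35_ok : cert.stepsOK 8960 steps35 = true ∧ ruleBound spec.length steps35 = true := by decide +kernel

theorem steps36_ok : cert.stepsOK 9216 steps36 = true ∧ ruleBound spec.length steps36 = true := by decide +kernel

theorem steps37_ok : cert.stepsOK 9472 steps37 = true ∧ ruleBound spec.length steps37 = true := by decide +kernel

theorem steps38_ok : cert.stepsOK 9728 steps38 = true ∧ ruleBound spec.length steps38 = true := by decide +kernel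

theorem steps39_ok : cert.stepsOK 9984 steps39 = true ∧ ruleBound spec.length steps39 = true := by decide +kernel

theorem steps40_ok : cert.stepsOK 10240 steps40 = true ∧ ruleBound spec.length steps40 = true := by decide +kernel

theorem steps41_ok : cert.stepsOK 10496 steps41 = true ∧ ruleBound spec.length steps41 = true := by decide +kernel

theorem steps42_ok : cert.stepsOK 10752 steps42 = true ∧ ruleBound spec.length steps42 = true := by decide +kernel

theorem steps43_ok : cert.stepsOK 11008 steps43 = true ∧ ruleBound spec.length steps43 = true := by decide +kernel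

theorem steps44_ok : cert.stepsOK 11264 steps44 = true ∧ ruleBound spec.length steps44 = true := by decide +kernel

theorem steps45_ok : cert.stepsOK 11520 steps45 = true ∧ ruleBound spec.length steps45 = true := by decide +kernel

theorem steps46_ok : cert.stepsOK 11776 steps46 = true ∧ ruleBound spec.length steps46 = true := by decide +kernel

theorem steps47_ok : cert.stepsOK 12032 steps47 = true ∧ ruleBound spec.length steps47 = true := by decide +kernel

theorem steps48_ok : cert.stepsOK 12288 steps48 = true ∧ ruleBound spec.length steps48 = true := by decide +kernel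

theorem steps49_ok : cert.stepsOK 12544 steps49 = true ∧ ruleBound spec.length steps49 = true := by decide +kernel

theorem steps50_ok : cert.stepsOK 12800 steps50 = true ∧ ruleBound spec.length steps50 = true := by decide +kernel

theorem steps51_ok : cert.stepsOK 13056 steps51 = true ∧ ruleBound spec.length steps51 = true := by decide +kernel

theorem steps52_ok : cert.stepsOK 13312 steps52 = true ∧ ruleBound spec.length steps52 = true := by decide +kernel

theorem steps53_ok : cert.stepsOK 13568 steps53 = true ∧ ruleBound spec.length steps53 = true := by decide +kernel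

theorem steps54_ok : cert.stepsOK 13824 steps54 = true ∧ ruleBound spec.length steps54 = true := by decide +kernel

theorem steps55_ok : cert.stepsOK 14080 steps55 = true ∧ ruleBound spec.length steps55 = true := by decide +kernel

theorem steps56_ok : cert.stepsOK 14336 steps56 = true ∧ ruleBound spec.length steps56 = true := by decide +kernel

theorem steps57_ok : cert.stepsOK 14592 steps57 = true ∧ ruleBound spec.length steps57 = true := by decide +kernel

theorem steps58_ok : cert.stepsOK 14848 steps58 = true ∧ ruleBound spec.length steps58 = true := by decide +kernel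

theorem steps59_ok : cert.stepsOK 15104 steps59 = true ∧ ruleBound spec.length steps59 = true := by decide +kernel

theorem steps60_ok : cert.stepsOK 15360 steps60 = true ∧ ruleBound spec.length steps60 = true := by decide +kernel

theorem steps61_ok : cert.stepsOK 15616 steps61 = true ∧ ruleBound spec.length steps61 = true := by decide +kernel

theorem steps62_ok : cert.stepsOK 15872 steps62 = true ∧ ruleBound spec.length steps62 = true := by decide +kernel

theorem steps63_ok : cert.stepsOK 16128 steps63 = true ∧ ruleBound spec.length steps63 = true := by decide +kernel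

theorem steps64_ok : cert.stepsOK 16384 steps64 = true ∧ ruleBound spec.length steps64 = true := by decide +kernel

theorem steps65_ok : cert.stepsOK 16640 steps65 = true ∧ ruleBound spec.length steps65 = true := by decide +kernel

theorem steps66_ok : cert.stepsOK 16896 steps66 = true ∧ ruleBound spec.length steps66 = true := by decide +kernel

theorem steps67_ok : cert.stepsOK 17152 steps67 = true ∧ ruleBound spec.length steps67 = true := by decide +kernel

theorem steps68_ok : cert.stepsOK 17408 steps68 = true ∧ ruleBound spec.length steps68 = true := by decide +kernel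

theorem steps69_ok : cert.stepsOK 17664 steps69 = true ∧ ruleBound spec.length steps69 = true := by decide +kernel

theorem steps70_ok : cert.stepsOK 17920 steps70 = true ∧ ruleBound spec.length steps70 = true := by decide +kernel

theorem steps71_ok : cert.stepsOK 18176 steps71 = true ∧ ruleBound spec.length steps71 = true := by decide +kernel

theorem steps72_ok : cert.stepsOK 18432 steps72 = true ∧ ruleBound spec.length steps72 = true := by decide +kernel

theorem steps73_ok : cert.stepsOK 18688 steps73 = true ∧ ruleBound spec.length steps73 = true := by decide +kernel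

theorem steps74_ok : cert.stepsOK 18944 steps74 = true ∧ ruleBound spec.length steps74 = true := by decide +kernel

theorem steps75_ok : cert.stepsOK 19200 steps75 = true ∧ ruleBound spec.length steps75 = true := by decide +kernel

theorem steps76_ok : cert.stepsOK 19456 steps76 = true ∧ ruleBound spec.length steps76 = true := by decide +kernel

theorem steps77_ok : cert.stepsOK 19712 steps77 = true ∧ ruleBound spec.length steps77 = true := by decide +kernel

theorem steps78_ok : cert.stepsOK 19968 steps78 = true ∧ ruleBound spec.length steps78 = true := by decide +kernel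

theorem steps79_ok : cert.stepsOK 20224 steps79 = true ∧ ruleBound spec.length steps79 = true := by decide +kernel

theorem steps80_ok : cert.stepsOK 20480 steps80 = true ∧ ruleBound spec.length steps80 = true := by decide +kernel

theorem steps81_ok : cert.stepsOK 20736 steps81 = true ∧ ruleBound spec.length steps81 = true := by decide +kernel

theorem steps82_ok : cert.stepsOK 20992 steps82 = true ∧ ruleBound spec.length steps82 = true := by decide +kernel

theorem steps83_ok : cert.stepsOK 21248 steps83 = true ∧ ruleBound spec.length steps83 = true := by decide +kernel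

def cat0 : List (ℕ × ℕ) := steps0 ++ steps1

theorem cat0_ok : cert.stepsOK 0 cat0 = true ∧ ruleBound spec.length cat0 = true :=
  stepsOK_cat steps0_ok steps1_ok (by decide +kernel)

def cat1 : List (ℕ × ℕ) := steps2 ++ steps3

theorem cat1_ok : cert.stepsOK 512 cat1 = true ∧ ruleBound spec.length cat1 = true :=
  stepsOK_cat steps2_ok steps3_ok (by decide +kernel)

def cat2 : List (ℕ × ℕ) := steps4 ++ steps5

theorem cat2_ok : cert.stepsOK 1024 cat2 = true ∧ ruleBound spec.length cat2 = true :=
  stepsOK_cat steps4_ok steps5_ok (by decide +kernel)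

def cat3 : List (ℕ × ℕ) := steps6 ++ steps7

theorem cat3_ok : cert.stepsOK 1536 cat3 = true ∧ ruleBound spec.length cat3 = true :=
  stepsOK_cat steps6_ok steps7_ok (by decide +kernel)

def cat4 : List (ℕ × ℕ) := steps8 ++ steps9

theorem cat4_ok : cert.stepsOK 2048 cat4 = true ∧ ruleBound spec.length cat4 = true :=
  stepsOK_cat steps8_ok steps9_ok (by decide +kernel)

def cat5 : List (ℕ × ℕ) := steps10 ++ steps11

theorem cat5_ok : cert.stepsOK 2560 cat5 = true ∧ ruleBound spec.length cat5 = true :=
  stepsOK_cat steps10_ok steps11_ok (by decide +kernel)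

def cat6 : List (ℕ × ℕ) := steps12 ++ steps13

theorem cat6_ok : cert.stepsOK 3072 cat6 = true ∧ ruleBound spec.length cat6 = true :=
  stepsOK_cat steps12_ok steps13_ok (by decide +kernel)

def cat7 : List (ℕ × ℕ) := steps14 ++ steps15

theorem cat7_ok : cert.stepsOK 3584 cat7 = true ∧ ruleBound spec.length cat7 = true :=
  stepsOK_cat steps14_ok steps15_ok (by decide +kernel)

def cat8 : List (ℕ × ℕ) := steps16 ++ steps17

theorem cat8_ok : cert.stepsOK 4096 cat8 = true ∧ ruleBound spec.length cat8 = true :=
  stepsOK_cat steps16_ok steps17_ok (by decide +kernel)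

def cat9 : List (ℕ × ℕ) := steps18 ++ steps19

theorem cat9_ok : cert.stepsOK 4608 cat9 = true ∧ ruleBound spec.length cat9 = true :=
  stepsOK_cat steps18_ok steps19_ok (by decide +kernel)

def cat10 : List (ℕ × ℕ) := steps20 ++ steps21

theorem cat10_ok : cert.stepsOK 5120 cat10 = true ∧ ruleBound spec.length cat10 = true :=
  stepsOK_cat steps20_ok steps21_ok (by decide +kernel)

def cat11 : List (ℕ × ℕ) := steps22 ++ steps23

theorem cat11_ok : cert.stepsOK 5632 cat11 = true ∧ ruleBound spec.length cat11 = true :=
  stepsOK_cat steps22_ok steps23_ok (by decide +kernel)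

def cat12 : List (ℕ × ℕ) := steps24 ++ steps25

theorem cat12_ok : cert.stepsOK 6144 cat12 = true ∧ ruleBound spec.length cat12 = true :=
  stepsOK_cat steps24_ok steps25_ok (by decide +kernel)

def cat13 : List (ℕ × ℕ) := steps26 ++ steps27

theorem cat13_ok : cert.stepsOK 6656 cat13 = true ∧ ruleBound spec.length cat13 = true :=
  stepsOK_cat steps26_ok steps27_ok (by decide +kernel)

def cat14 : List (ℕ × ℕ) := steps28 ++ steps29

theorem cat14_ok : cert.stepsOK 7168 cat14 = true ∧ ruleBound spec.length cat14 = true :=
  stepsOK_cat steps28_ok steps29_ok (by decide +kernel)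

def cat15 : List (ℕ × ℕ) := steps30 ++ steps31

theorem cat15_ok : cert.stepsOK 7680 cat15 = true ∧ ruleBound spec.length cat15 = true :=
  stepsOK_cat steps30_ok steps31_ok (by decide +kernel)

def cat16 : List (ℕ × ℕ) := steps32 ++ steps33

theorem cat16_ok : cert.stepsOK 8192 cat16 = true ∧ ruleBound spec.length cat16 = true :=
  stepsOK_cat steps32_ok steps33_ok (by decide +kernel)

def cat17 : List (ℕ × ℕ) := steps34 ++ steps35

theorem cat17_ok : cert.stepsOK 8704 cat17 = true ∧ ruleBound spec.length cat17 = true :=
  stepsOK_cat steps34_ok steps35_ok (by decide +kernel)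

def cat18 : List (ℕ × ℕ) := steps36 ++ steps37

theorem cat18_ok : cert.stepsOK 9216 cat18 = true ∧ ruleBound spec.length cat18 = true :=
  stepsOK_cat steps36_ok steps37_ok (by decide +kernel)

def cat19 : List (ℕ × ℕ) := steps38 ++ steps39

theorem cat19_ok : cert.stepsOK 9728 cat19 = true ∧ ruleBound spec.length cat19 = true :=
  stepsOK_cat steps38_ok steps39_ok (by decide +kernel)

def cat20 : List (ℕ × ℕ) := steps40 ++ steps41

theorem cat20_ok : cert.stepsOK 10240 cat20 = true ∧ ruleBound spec.length cat20 = true :=
  stepsOK_cat steps40_ok steps41_ok (by decide +kernel)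

def cat21 : List (ℕ × ℕ) := steps42 ++ steps43

theorem cat21_ok : cert.stepsOK 10752 cat21 = true ∧ ruleBound spec.length cat21 = true :=
  stepsOK_cat steps42_ok steps43_ok (by decide +kernel)

def cat22 : List (ℕ × ℕ) := steps44 ++ steps45

theorem cat22_ok : cert.stepsOK 11264 cat22 = true ∧ ruleBound spec.length cat22 = true :=
  stepsOK_cat steps44_ok steps45_ok (by decide +kernel)

def cat23 : List (ℕ × ℕ) := steps46 ++ steps47

theorem cat23_ok : cert.stepsOK 11776 cat23 = true ∧ ruleBound spec.length cat23 = true :=
  stepsOK_cat steps46_ok steps47_ok (by decide +kernel)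

def cat24 : List (ℕ × ℕ) := steps48 ++ steps49

theorem cat24_ok : cert.stepsOK 12288 cat24 = true ∧ ruleBound spec.length cat24 = true :=
  stepsOK_cat steps48_ok steps49_ok (by decide +kernel)

def cat25 : List (ℕ × ℕ) := steps50 ++ steps51

theorem cat25_ok : cert.stepsOK 12800 cat25 = true ∧ ruleBound spec.length cat25 = true :=
  stepsOK_cat steps50_ok steps51_ok (by decide +kernel)

def cat26 : List (ℕ × ℕ) := steps52 ++ steps53

theorem cat26_ok : cert.stepsOK 13312 cat26 = true ∧ ruleBound spec.length cat26 = true :=
  stepsOK_cat steps52_ok steps53_ok (by decide +kernel)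

def cat27 : List (ℕ × ℕ) := steps54 ++ steps55

theorem cat27_ok : cert.stepsOK 13824 cat27 = true ∧ ruleBound spec.length cat27 = true :=
  stepsOK_cat steps54_ok steps55_ok (by decide +kernel)

def cat28 : List (ℕ × ℕ) := steps56 ++ steps57

theorem cat28_ok : cert.stepsOK 14336 cat28 = true ∧ ruleBound spec.length cat28 = true :=
  stepsOK_cat steps56_ok steps57_ok (by decide +kernel)

def cat29 : List (ℕ × ℕ) := steps58 ++ steps59

theorem cat29_ok : cert.stepsOK 14848 cat29 = true ∧ ruleBound spec.length cat29 = true :=
  stepsOK_cat steps58_ok steps59_ok (by decide +kernel)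

def cat30 : List (ℕ × ℕ) := steps60 ++ steps61

theorem cat30_ok : cert.stepsOK 15360 cat30 = true ∧ ruleBound spec.length cat30 = true :=
  stepsOK_cat steps60_ok steps61_ok (by decide +kernel)

def cat31 : List (ℕ × ℕ) := steps62 ++ steps63

theorem cat31_ok : cert.stepsOK 15872 cat31 = true ∧ ruleBound spec.length cat31 = true :=
  stepsOK_cat steps62_ok steps63_ok (by decide +kernel)

def cat32 : List (ℕ × ℕ) := steps64 ++ steps65

theorem cat32_ok : cert.stepsOK 16384 cat32 = true ∧ ruleBound spec.length cat32 = true :=
  stepsOK_cat steps64_ok steps65_ok (by decide +kernel)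

def cat33 : List (ℕ × ℕ) := steps66 ++ steps67

theorem cat33_ok : cert.stepsOK 16896 cat33 = true ∧ ruleBound spec.length cat33 = true :=
  stepsOK_cat steps66_ok steps67_ok (by decide +kernel)

def cat34 : List (ℕ × ℕ) := steps68 ++ steps69

theorem cat34_ok : cert.stepsOK 17408 cat34 = true ∧ ruleBound spec.length cat34 = true :=
  stepsOK_cat steps68_ok steps69_ok (by decide +kernel)

def cat35 : List (ℕ × ℕ) := steps70 ++ steps71

theorem cat35_ok : cert.stepsOK 17920 cat35 = true ∧ ruleBound spec.length cat35 = true :=
  stepsOK_cat steps70_ok steps71_ok (by decide +kernel)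

def cat36 : List (ℕ × ℕ) := steps72 ++ steps73

theorem cat36_ok : cert.stepsOK 18432 cat36 = true ∧ ruleBound spec.length cat36 = true :=
  stepsOK_cat steps72_ok steps73_ok (by decide +kernel)

def cat37 : List (ℕ × ℕ) := steps74 ++ steps75

theorem cat37_ok : cert.stepsOK 18944 cat37 = true ∧ ruleBound spec.length cat37 = true :=
  stepsOK_cat steps74_ok steps75_ok (by decide +kernel)

def cat38 : List (ℕ × ℕ) := steps76 ++ steps77

theorem cat38_ok : cert.stepsOK 19456 cat38 = true ∧ ruleBound spec.length cat38 = true :=
  stepsOK_cat steps76_ok steps77_ok (by decide +kernel)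

def cat39 : List (ℕ × ℕ) := steps78 ++ steps79

theorem cat39_ok : cert.stepsOK 19968 cat39 = true ∧ ruleBound spec.length cat39 = true :=
  stepsOK_cat steps78_ok steps79_ok (by decide +kernel)

def cat40 : List (ℕ × ℕ) := steps80 ++ steps81

theorem cat40_ok : cert.stepsOK 20480 cat40 = true ∧ ruleBound spec.length cat40 = true :=
  stepsOK_cat steps80_ok steps81_ok (by decide +kernel)

def cat41 : List (ℕ × ℕ) := steps82 ++ steps83

theorem cat41_ok : cert.stepsOK 20992 cat41 = true ∧ ruleBound spec.length cat41 = true :=
  stepsOK_cat steps82_ok steps83_ok (by decide +kernel)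

def cat42 : List (ℕ × ℕ) := cat0 ++ cat1

theorem cat42_ok : cert.stepsOK 0 cat42 = true ∧ ruleBound spec.length cat42 = true :=
  stepsOK_cat cat0_ok cat1_ok (by decide +kernel)

def cat43 : List (ℕ × ℕ) := cat2 ++ cat3

theorem cat43_ok : cert.stepsOK 1024 cat43 = true ∧ ruleBound spec.length cat43 = true :=
  stepsOK_cat cat2_ok cat3_ok (by decide +kernel)

def cat44 : List (ℕ × ℕ) := cat4 ++ cat5

theorem cat44_ok : cert.stepsOK 2048 cat44 = true ∧ ruleBound spec.length cat44 = true :=
  stepsOK_cat cat4_ok cat5_ok (by decide +kernel)

def cat45 : List (ℕ × ℕ) := cat6 ++ cat7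

theorem cat45_ok : cert.stepsOK 3072 cat45 = true ∧ ruleBound spec.length cat45 = true :=
  stepsOK_cat cat6_ok cat7_ok (by decide +kernel)

def cat46 : List (ℕ × ℕ) := cat8 ++ cat9

theorem cat46_ok : cert.stepsOK 4096 cat46 = true ∧ ruleBound spec.length cat46 = true :=
  stepsOK_cat cat8_ok cat9_ok (by decide +kernel)

def cat47 : List (ℕ × ℕ) := cat10 ++ cat11

theorem cat47_ok : cert.stepsOK 5120 cat47 = true ∧ ruleBound spec.length cat47 = true :=
  stepsOK_cat cat10_ok cat11_ok (by decide +kernel)

def cat48 : List (ℕ × ℕ) := cat12 ++ cat13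

theorem cat48_ok : cert.stepsOK 6144 cat48 = true ∧ ruleBound spec.length cat48 = true :=
  stepsOK_cat cat12_ok cat13_ok (by decide +kernel)

def cat49 : List (ℕ × ℕ) := cat14 ++ cat15

theorem cat49_ok : cert.stepsOK 7168 cat49 = true ∧ ruleBound spec.length cat49 = true :=
  stepsOK_cat cat14_ok cat15_ok (by decide +kernel)

def cat50 : List (ℕ × ℕ) := cat16 ++ cat17

theorem cat50_ok : cert.stepsOK 8192 cat50 = true ∧ ruleBound spec.length cat50 = true :=
  stepsOK_cat cat16_ok cat17_ok (by decide +kernel)

def cat51 : List (ℕ × ℕ) := cat18 ++ cat19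

theorem cat51_ok : cert.stepsOK 9216 cat51 = true ∧ ruleBound spec.length cat51 = true :=
  stepsOK_cat cat18_ok cat19_ok (by decide +kernel)

def cat52 : List (ℕ × ℕ) := cat20 ++ cat21

theorem cat52_ok : cert.stepsOK 10240 cat52 = true ∧ ruleBound spec.length cat52 = true :=
  stepsOK_cat cat20_ok cat21_ok (by decide +kernel)

def cat53 : List (ℕ × ℕ) := cat22 ++ cat23

theorem cat53_ok : cert.stepsOK 11264 cat53 = true ∧ ruleBound spec.length cat53 = true :=
  stepsOK_cat cat22_ok cat23_ok (by decide +kernel)

def cat54 : List (ℕ × ℕ) := cat24 ++ cat25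

theorem cat54_ok : cert.stepsOK 12288 cat54 = true ∧ ruleBound spec.length cat54 = true :=
  stepsOK_cat cat24_ok cat25_ok (by decide +kernel)

def cat55 : List (ℕ × ℕ) := cat26 ++ cat27

theorem cat55_ok : cert.stepsOK 13312 cat55 = true ∧ ruleBound spec.length cat55 = true :=
  stepsOK_cat cat26_ok cat27_ok (by decide +kernel)

def cat56 : List (ℕ × ℕ) := cat28 ++ cat29

theorem cat56_ok : cert.stepsOK 14336 cat56 = true ∧ ruleBound spec.length cat56 = true :=
  stepsOK_cat cat28_ok cat29_ok (by decide +kernel)

def cat57 : List (ℕ × ℕ) := cat30 ++ cat31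

theorem cat57_ok : cert.stepsOK 15360 cat57 = true ∧ ruleBound spec.length cat57 = true :=
  stepsOK_cat cat30_ok cat31_ok (by decide +kernel)

def cat58 : List (ℕ × ℕ) := cat32 ++ cat33

theorem cat58_ok : cert.stepsOK 16384 cat58 = true ∧ ruleBound spec.length cat58 = true :=
  stepsOK_cat cat32_ok cat33_ok (by decide +kernel)

def cat59 : List (ℕ × ℕ) := cat34 ++ cat35

theorem cat59_ok : cert.stepsOK 17408 cat59 = true ∧ ruleBound spec.length cat59 = true :=
  stepsOK_cat cat34_ok cat35_ok (by decide +kernel)

def cat60 : List (ℕ × ℕ) := cat36 ++ cat37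

theorem cat60_ok : cert.stepsOK 18432 cat60 = true ∧ ruleBound spec.length cat60 = true :=
  stepsOK_cat cat36_ok cat37_ok (by decide +kernel)

def cat61 : List (ℕ × ℕ) := cat38 ++ cat39

theorem cat61_ok : cert.stepsOK 19456 cat61 = true ∧ ruleBound spec.length cat61 = true :=
  stepsOK_cat cat38_ok cat39_ok (by decide +kernel)

def cat62 : List (ℕ × ℕ) := cat40 ++ cat41

theorem cat62_ok : cert.stepsOK 20480 cat62 = true ∧ ruleBound spec.length cat62 = true :=
  stepsOK_cat cat40_ok cat41_ok (by decide +kernel)

def cat63 : List (ℕ × ℕ) := cat42 ++ cat43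

theorem cat63_ok : cert.stepsOK 0 cat63 = true ∧ ruleBound spec.length cat63 = true :=
  stepsOK_cat cat42_ok cat43_ok (by decide +kernel)

def cat64 : List (ℕ × ℕ) := cat44 ++ cat45

theorem cat64_ok : cert.stepsOK 2048 cat64 = true ∧ ruleBound spec.length cat64 = true :=
  stepsOK_cat cat44_ok cat45_ok (by decide +kernel)

def cat65 : List (ℕ × ℕ) := cat46 ++ cat47

theorem cat65_ok : cert.stepsOK 4096 cat65 = true ∧ ruleBound spec.length cat65 = true :=
  stepsOK_cat cat46_ok cat47_ok (by decide +kernel)

def cat66 : List (ℕ × ℕ) := cat48 ++ cat49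

theorem cat66_ok : cert.stepsOK 6144 cat66 = true ∧ ruleBound spec.length cat66 = true :=
  stepsOK_cat cat48_ok cat49_ok (by decide +kernel)

def cat67 : List (ℕ × ℕ) := cat50 ++ cat51

theorem cat67_ok : cert.stepsOK 8192 cat67 = true ∧ ruleBound spec.length cat67 = true :=
  stepsOK_cat cat50_ok cat51_ok (by decide +kernel)

def cat68 : List (ℕ × ℕ) := cat52 ++ cat53

theorem cat68_ok : cert.stepsOK 10240 cat68 = true ∧ ruleBound spec.length cat68 = true :=
  stepsOK_cat cat52_ok cat53_ok (by decide +kernel)

def cat69 : List (ℕ × ℕ) := cat54 ++ cat55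

theorem cat69_ok : cert.stepsOK 12288 cat69 = true ∧ ruleBound spec.length cat69 = true :=
  stepsOK_cat cat54_ok cat55_ok (by decide +kernel)

def cat70 : List (ℕ × ℕ) := cat56 ++ cat57

theorem cat70_ok : cert.stepsOK 14336 cat70 = true ∧ ruleBound spec.length cat70 = true :=
  stepsOK_cat cat56_ok cat57_ok (by decide +kernel)

def cat71 : List (ℕ × ℕ) := cat58 ++ cat59

theorem cat71_ok : cert.stepsOK 16384 cat71 = true ∧ ruleBound spec.length cat71 = true :=
  stepsOK_cat cat58_ok cat59_ok (by decide +kernel)

def cat72 : List (ℕ × ℕ) := cat60 ++ cat61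

theorem cat72_ok : cert.stepsOK 18432 cat72 = true ∧ ruleBound spec.length cat72 = true :=
  stepsOK_cat cat60_ok cat61_ok (by decide +kernel)

def cat73 : List (ℕ × ℕ) := cat63 ++ cat64

theorem cat73_ok : cert.stepsOK 0 cat73 = true ∧ ruleBound spec.length cat73 = true :=
  stepsOK_cat cat63_ok cat64_ok (by decide +kernel)

def cat74 : List (ℕ × ℕ) := cat65 ++ cat66

theorem cat74_ok : cert.stepsOK 4096 cat74 = true ∧ ruleBound spec.length cat74 = true :=
  stepsOK_cat cat65_ok cat66_ok (by decide +kernel)

def cat75 : List (ℕ × ℕ) := cat67 ++ cat68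

theorem cat75_ok : cert.stepsOK 8192 cat75 = true ∧ ruleBound spec.length cat75 = true :=
  stepsOK_cat cat67_ok cat68_ok (by decide +kernel)

def cat76 : List (ℕ × ℕ) := cat69 ++ cat70

theorem cat76_ok : cert.stepsOK 12288 cat76 = true ∧ ruleBound spec.length cat76 = true :=
  stepsOK_cat cat69_ok cat70_ok (by decide +kernel)

def cat77 : List (ℕ × ℕ) := cat71 ++ cat72

theorem cat77_ok : cert.stepsOK 16384 cat77 = true ∧ ruleBound spec.length cat77 = true :=
  stepsOK_cat cat71_ok cat72_ok (by decide +kernel)

def cat78 : List (ℕ × ℕ) := cat73 ++ cat74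

theorem cat78_ok : cert.stepsOK 0 cat78 = true ∧ ruleBound spec.length cat78 = true :=
  stepsOK_cat cat73_ok cat74_ok (by decide +kernel)

def cat79 : List (ℕ × ℕ) := cat75 ++ cat76

theorem cat79_ok : cert.stepsOK 8192 cat79 = true ∧ ruleBound spec.length cat79 = true :=
  stepsOK_cat cat75_ok cat76_ok (by decide +kernel)

def cat80 : List (ℕ × ℕ) := cat77 ++ cat62

theorem cat80_ok : cert.stepsOK 16384 cat80 = true ∧ ruleBound spec.length cat80 = true :=
  stepsOK_cat cat77_ok cat62_ok (by decide +kernel)

def cat81 : List (ℕ × ℕ) := cat78 ++ cat79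

theorem cat81_ok : cert.stepsOK 0 cat81 = true ∧ ruleBound spec.length cat81 = true :=
  stepsOK_cat cat78_ok cat79_ok (by decide +kernel)

def cat82 : List (ℕ × ℕ) := cat81 ++ cat80

theorem cat82_ok : cert.stepsOK 0 cat82 = true ∧ ruleBound spec.length cat82 = true :=
  stepsOK_cat cat81_ok cat80_ok (by decide +kernel)

theorem spec_ok : cert.rotsOK rels spec = true := by decide +kernel

theorem trace_ok : cert.walk cat82.length trace 0 0 = some (0, wcode target) := by decide +kernel

theorem target_mem {G : Type*} [Group G] (im : ℕ → G) {K : Subgroup G} (hinv : cert.InvOK im)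
    (hR : ∀ r ∈ rels, wval im r = 1) (hsub : ∀ s ∈ cert.subs, wval im s ∈ K) : wval im target ∈ K :=
  word_mem cert im (by decide) hinv spec_ok cat82_ok hR hsub (by decide) trace_ok

end Cfsg.Lib.HNPres.RelK1
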