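import Cfsg.Agent.HNPres.RelK2Data

/-!
The certificate is valid.
-/

set_option autoImplicit false

namespace Cfsg.Lib.HNPres.RelK2

open Cfsg.Lib.CosetNames

set_option Elab.async false

theorem steps0_ok : cert.stepsOK 0 steps0 = true ∧ ruleBound spec.length steps0 = true := by decide +kernel

theorem steps1_ok : cert.stepsOK 256 steps1 = true ∧ ruleBound spec.length steps1 = true := by decide +kernel

theorem steps2_ok : cert.stepsOK 512 steps2 = true ∧ ruleBound spec.length steps2 = true := by decide +kernel

theorem steps3_ok : cert.stepsOK 768 steps3 = true ∧ ruleBound spec.length steps3 = true := by decide +kernel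

theorem steps4_ok : cert.stepsOK 1024 steps4 = true ∧ ruleBound spec.length steps4 = true := by decide +kernel

theorem steps5_ok : cert.stepsOK 1280 steps5 = true ∧ ruleBound spec.length steps5 = true := by decide +kernel

theorem steps6_ok : cert.stepsOK 1536 steps6 = true ∧ ruleBound spec.length steps6 = true := by decide +kernel

theorem steps7_ok : cert.stepsOK 1792 steps7 = true ∧ ruleBound spec.length steps7 = true := by decide +kernel

theorem steps8_ok : cert.stepsOK 2048 steps8 = true ∧ ruleBound spec.length steps8 = true := by decide +kernel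

theorem steps9_ok : cert.stepsOK 2304 steps9 = true ∧ ruleBound spec.length steps9 = true := by decide +kernel

theorem steps10_ok : cert.stepsOK 2560 steps10 = true ∧ ruleBound spec.length steps10 = true := by decide +kernel

theorem steps11_ok : cert.stepsOK 2816 steps11 = true ∧ ruleBound spec.length steps11 = true := by decide +kernel

theorem steps12_ok : cert.stepsOK 3072 steps12 = true ∧ ruleBound spec.length steps12 = true := by decide +kernel

def cat0 : List (ℕ × ℕ) := steps0 ++ steps1

theorem cat0_ok : cert.stepsOK 0 cat0 = true ∧ ruleBound spec.length cat0 = true :=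
  stepsOK_cat steps0_ok steps1_ok (by decide +kernel)

def cat1 : List (ℕ × ℕ) := steps2 ++ steps3

theorem cat1_ok : cert.stepsOK 512 cat1 = true ∧ ruleBound spec.length cat1 = true :=
  stepsOK_cat steps2_ok steps3_ok (by decide +kernel)

def cat2 : List (ℕ × ℕ) := steps4 ++ steps5

theorem cat2_ok : cert.stepsOK 1024 cat2 = true ∧ ruleBound spec.length cat2 = true :=
  stepsOK_cat steps4_ok steps5_ok (by decide +kernel)

def cat3 : List (ℕ × ℕ) := steps6 ++ steps7

theorem cat3_ok : cert.stepsOK 1536 cat3 = true ∧ ruleBound spec.length cat3 = true :=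
  stepsOK_cat steps6_ok steps7_ok (by decide +kernel)

def cat4 : List (ℕ × ℕ) := steps8 ++ steps9

theorem cat4_ok : cert.stepsOK 2048 cat4 = true ∧ ruleBound spec.length cat4 = true :=
  stepsOK_cat steps8_ok steps9_ok (by decide +kernel)

def cat5 : List (ℕ × ℕ) := steps10 ++ steps11

theorem cat5_ok : cert.stepsOK 2560 cat5 = true ∧ ruleBound spec.length cat5 = true :=
  stepsOK_cat steps10_ok steps11_ok (by decide +kernel)

def cat6 : List (ℕ × ℕ) := cat0 ++ cat1

theorem cat6_ok : cert.stepsOK 0 cat6 = true ∧ ruleBound spec.length cat6 = true :=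
  stepsOK_cat cat0_ok cat1_ok (by decide +kernel)

def cat7 : List (ℕ × ℕ) := cat2 ++ cat3

theorem cat7_ok : cert.stepsOK 1024 cat7 = true ∧ ruleBound spec.length cat7 = true :=
  stepsOK_cat cat2_ok cat3_ok (by decide +kernel)

def cat8 : List (ℕ × ℕ) := cat4 ++ cat5

theorem cat8_ok : cert.stepsOK 2048 cat8 = true ∧ ruleBound spec.length cat8 = true :=
  stepsOK_cat cat4_ok cat5_ok (by decide +kernel)

def cat9 : List (ℕ × ℕ) := cat6 ++ cat7

theorem cat9_ok : cert.stepsOK 0 cat9 = true ∧ ruleBound spec.length cat9 = true :=
  stepsOK_cat cat6_ok cat7_ok (by decide +kernel)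

def cat10 : List (ℕ × ℕ) := cat8 ++ steps12

theorem cat10_ok : cert.stepsOK 2048 cat10 = true ∧ ruleBound spec.length cat10 = true :=
  stepsOK_cat cat8_ok steps12_ok (by decide +kernel)

def cat11 : List (ℕ × ℕ) := cat9 ++ cat10

theorem cat11_ok : cert.stepsOK 0 cat11 = true ∧ ruleBound spec.length cat11 = true :=
  stepsOK_cat cat9_ok cat10_ok (by decide +kernel)

theorem spec_ok : cert.rotsOK rels spec = true := by decide +kernel

theorem trace_ok : cert.walk cat11.length trace 0 0 = some (0, wcode target) := by decide +kernel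

theorem target_mem {G : Type*} [Group G] (im : ℕ → G) {K : Subgroup G} (hinv : cert.InvOK im)
    (hR : ∀ r ∈ rels, wval im r = 1) (hsub : ∀ s ∈ cert.subs, wval im s ∈ K) : wval im target ∈ K :=
  word_mem cert im (by decide) hinv spec_ok cat11_ok hR hsub (by decide) trace_ok

end Cfsg.Lib.HNPres.RelK2
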