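import Cfsg.Agent.HNPres.TabAData

/-!
The certificate is valid.
-/

set_option autoImplicit false

namespace Cfsg.Lib.HNPres.TabA

open Cfsg.Lib.CosetNames

set_option Elab.async false

theorem steps0_ok : cert.stepsOK 0 steps0 = true ∧ ruleBound spec.length steps0 = true := by decide +kernel

theorem steps1_ok : cert.stepsOK 256 steps1 = true ∧ ruleBound spec.length steps1 = true := by decide +kernel

theorem steps2_ok : cert.stepsOK 512 steps2 = true ∧ ruleBound spec.length steps2 = true := by decide +kernel

def cat0 : List (ℕ × ℕ) := steps0 ++ steps1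

theorem cat0_ok : cert.stepsOK 0 cat0 = true ∧ ruleBound spec.length cat0 = true :=
  stepsOK_cat steps0_ok steps1_ok (by decide +kernel)

def cat1 : List (ℕ × ℕ) := cat0 ++ steps2

theorem cat1_ok : cert.stepsOK 0 cat1 = true ∧ ruleBound spec.length cat1 = true :=
  stepsOK_cat cat0_ok steps2_ok (by decide +kernel)

theorem spec_ok : cert.rotsOK rels spec = true := by decide +kernel

theorem tab_ok : cert.tabOK cat1.length = true := by decide +kernel

theorem valid : cert.Valid rels :=
  ⟨by decide, spec, cat1, spec_ok, cat1_ok.1, cat1_ok.2, tab_ok⟩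

theorem fins_length : cert.fin.length = 50 := by rw [Cert.fin, List.length_map, List.length_range]; rfl

end Cfsg.Lib.HNPres.TabA
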