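import Cfsg.Agent.HNPres.TabCData

/-!
The certificate is valid.
-/

set_option autoImplicit false

namespace Cfsg.Lib.HNPres.TabC

open Cfsg.Lib.CosetNames

set_option Elab.async false

theorem steps0_ok : cert.stepsOK 0 steps0 = true ∧ ruleBound spec.length steps0 = true := by decide +kernel

theorem steps1_ok : cert.stepsOK 256 steps1 = true ∧ ruleBound spec.length steps1 = true := by decide +kernel

theorem steps2_ok : cert.stepsOK 512 steps2 = true ∧ ruleBound spec.length steps2 = true := by decide +kernel

theorem steps3_ok : cert.stepsOK 768 steps3 = true ∧ ruleBound spec.length steps3 = true := by decide +kernel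

theorem steps4_ok : cert.stepsOK 1024 steps4 = true ∧ ruleBound spec.length steps4 = true := by decide +kernel

theorem steps5_ok : cert.stepsOK 1280 steps5 = true ∧ ruleBound spec.length steps5 = true := by decide +kernel

theorem steps6_ok : cert.stepsOK 1536 steps6 = true ∧ ruleBound spec.length steps6 = true := by decide +kernel

theorem steps7_ok : cert.stepsOK 1792 steps7 = true ∧ ruleBound spec.length steps7 = true := by decide +kernel

theorem steps8_ok : cert.stepsOK 2048 steps8 = true ∧ ruleBound spec.length steps8 = true := by decide +kernel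

theorem steps9_ok : cert.stepsOK 2304 steps9 = true ∧ ruleBound spec.length steps9 = true := by decide +kernel

theorem steps10_ok : cert.stepsOK 2560 steps10 = true ∧ ruleBound spec.length steps10 = true := by decide +kernel

theorem steps11_ok : cert.stepsOK 2816 steps11 = true ∧ ruleBound spec.length steps11 = true := by decide +kernel

theorem steps12_ok : cert.stepsOK 3072 steps12 = true ∧ ruleBound spec.length steps12 = true := by decide +kernel

theorem steps13_ok : cert.stepsOK 3328 steps13 = true ∧ ruleBound spec.length steps13 = true := by decide +kernel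

theorem steps14_ok : cert.stepsOK 3584 steps14 = true ∧ ruleBound spec.length steps14 = true := by decide +kernel

theorem steps15_ok : cert.stepsOK 3840 steps15 = true ∧ ruleBound spec.length steps15 = true := by decide +kernel

theorem steps16_ok : cert.stepsOK 4096 steps16 = true ∧ ruleBound spec.length steps16 = true := by decide +kernel

theorem steps17_ok : cert.stepsOK 4352 steps17 = true ∧ ruleBound spec.length steps17 = true := by decide +kernel

theorem steps18_ok : cert.stepsOK 4608 steps18 = true ∧ ruleBound spec.length steps18 = true := by decide +kernel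

theorem steps19_ok : cert.stepsOK 4864 steps19 = true ∧ ruleBound spec.length steps19 = true := by decide +kernel

theorem steps20_ok : cert.stepsOK 5120 steps20 = true ∧ ruleBound spec.length steps20 = true := by decide +kernel

theorem steps21_ok : cert.stepsOK 5376 steps21 = true ∧ ruleBound spec.length steps21 = true := by decide +kernel

def cat0 : List (ℕ × ℕ) := steps0 ++ steps1

theorem cat0_ok : cert.stepsOK 0 cat0 = true ∧ ruleBound spec.length cat0 = true :=
  stepsOK_cat steps0_ok steps1_ok (by decide +kernel)

def cat1 : List (ℕ × ℕ) := steps2 ++ steps3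

theorem cat1_ok : cert.stepsOK 512 cat1 = true ∧ ruleBound spec.length cat1 = true :=
  stepsOK_cat steps2_ok steps3_ok (by decide +kernel)

def cat2 : List (ℕ × ℕ) := steps4 ++ steps5

theorem cat2_ok : cert.stepsOK 1024 cat2 = true ∧ ruleBound spec.length cat2 = true :=
  stepsOK_cat steps4_ok steps5_ok (by decide +kernel)

def cat3 : List (ℕ × ℕ) := steps6 ++ steps7

theorem cat3_ok : cert.stepsOK 1536 cat3 = true ∧ ruleBound spec.length cat3 = true :=
  stepsOK_cat steps6_ok steps7_ok (by decide +kernel)

def cat4 : List (ℕ × ℕ) := steps8 ++ steps9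

theorem cat4_ok : cert.stepsOK 2048 cat4 = true ∧ ruleBound spec.length cat4 = true :=
  stepsOK_cat steps8_ok steps9_ok (by decide +kernel)

def cat5 : List (ℕ × ℕ) := steps10 ++ steps11

theorem cat5_ok : cert.stepsOK 2560 cat5 = true ∧ ruleBound spec.length cat5 = true :=
  stepsOK_cat steps10_ok steps11_ok (by decide +kernel)

def cat6 : List (ℕ × ℕ) := steps12 ++ steps13

theorem cat6_ok : cert.stepsOK 3072 cat6 = true ∧ ruleBound spec.length cat6 = true :=
  stepsOK_cat steps12_ok steps13_ok (by decide +kernel)

def cat7 : List (ℕ × ℕ) := steps14 ++ steps15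

theorem cat7_ok : cert.stepsOK 3584 cat7 = true ∧ ruleBound spec.length cat7 = true :=
  stepsOK_cat steps14_ok steps15_ok (by decide +kernel)

def cat8 : List (ℕ × ℕ) := steps16 ++ steps17

theorem cat8_ok : cert.stepsOK 4096 cat8 = true ∧ ruleBound spec.length cat8 = true :=
  stepsOK_cat steps16_ok steps17_ok (by decide +kernel)

def cat9 : List (ℕ × ℕ) := steps18 ++ steps19

theorem cat9_ok : cert.stepsOK 4608 cat9 = true ∧ ruleBound spec.length cat9 = true :=
  stepsOK_cat steps18_ok steps19_ok (by decide +kernel)

def cat10 : List (ℕ × ℕ) := steps20 ++ steps21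

theorem cat10_ok : cert.stepsOK 5120 cat10 = true ∧ ruleBound spec.length cat10 = true :=
  stepsOK_cat steps20_ok steps21_ok (by decide +kernel)

def cat11 : List (ℕ × ℕ) := cat0 ++ cat1

theorem cat11_ok : cert.stepsOK 0 cat11 = true ∧ ruleBound spec.length cat11 = true :=
  stepsOK_cat cat0_ok cat1_ok (by decide +kernel)

def cat12 : List (ℕ × ℕ) := cat2 ++ cat3

theorem cat12_ok : cert.stepsOK 1024 cat12 = true ∧ ruleBound spec.length cat12 = true :=
  stepsOK_cat cat2_ok cat3_ok (by decide +kernel)

def cat13 : List (ℕ × ℕ) := cat4 ++ cat5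

theorem cat13_ok : cert.stepsOK 2048 cat13 = true ∧ ruleBound spec.length cat13 = true :=
  stepsOK_cat cat4_ok cat5_ok (by decide +kernel)

def cat14 : List (ℕ × ℕ) := cat6 ++ cat7

theorem cat14_ok : cert.stepsOK 3072 cat14 = true ∧ ruleBound spec.length cat14 = true :=
  stepsOK_cat cat6_ok cat7_ok (by decide +kernel)

def cat15 : List (ℕ × ℕ) := cat8 ++ cat9

theorem cat15_ok : cert.stepsOK 4096 cat15 = true ∧ ruleBound spec.length cat15 = true :=
  stepsOK_cat cat8_ok cat9_ok (by decide +kernel)

def cat16 : List (ℕ × ℕ) := cat11 ++ cat12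

theorem cat16_ok : cert.stepsOK 0 cat16 = true ∧ ruleBound spec.length cat16 = true :=
  stepsOK_cat cat11_ok cat12_ok (by decide +kernel)

def cat17 : List (ℕ × ℕ) := cat13 ++ cat14

theorem cat17_ok : cert.stepsOK 2048 cat17 = true ∧ ruleBound spec.length cat17 = true :=
  stepsOK_cat cat13_ok cat14_ok (by decide +kernel)

def cat18 : List (ℕ × ℕ) := cat15 ++ cat10

theorem cat18_ok : cert.stepsOK 4096 cat18 = true ∧ ruleBound spec.length cat18 = true :=
  stepsOK_cat cat15_ok cat10_ok (by decide +kernel)

def cat19 : List (ℕ × ℕ) := cat16 ++ cat17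

theorem cat19_ok : cert.stepsOK 0 cat19 = true ∧ ruleBound spec.length cat19 = true :=
  stepsOK_cat cat16_ok cat17_ok (by decide +kernel)

def cat20 : List (ℕ × ℕ) := cat19 ++ cat18

theorem cat20_ok : cert.stepsOK 0 cat20 = true ∧ ruleBound spec.length cat20 = true :=
  stepsOK_cat cat19_ok cat18_ok (by decide +kernel)

theorem spec_ok : cert.rotsOK rels spec = true := by decide +kernel

theorem tab_ok : cert.tabOK cat20.length = true := by decide +kernel

theorem valid : cert.Valid rels :=
  ⟨by decide, spec, cat20, spec_ok, cat20_ok.1, cat20_ok.2, tab_ok⟩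

theorem fins_length : cert.fin.length = 2520 := by rw [Cert.fin, List.length_map, List.length_range]; rfl

end Cfsg.Lib.HNPres.TabC
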