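import Cfsg.Agent.HNPres.RowTest
import Cfsg.Agent.HNPres.RelX4Check
import Cfsg.Agent.HNPres.RelK1Check
import Cfsg.Agent.HNPres.RelK2Check
import Cfsg.Agent.HNPres.RelWCheck
import Cfsg.Agent.HNPres.Rel5Check
import Cfsg.Agent.HNPres.RelTCheck
import Cfsg.Agent.HNPres.TabACheck
import Cfsg.Agent.HNPres.TabCCheck
import Cfsg.Agent.HNPres.TabNCheck

/-!
A group on x, y, z with the relators of the double cover of the automorphism group of the Higman-Sims group has order
at most 532224000, as soon as it maps to the matrices of degree 133.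
-/

set_option autoImplicit false
set_option Elab.async false

namespace Cfsg.Lib.HNPres

open Cfsg.Lib.CosetNames Cfsg.Lib.HNRep

/-- The data of such a group. -/
structure Setup (G : Type*) [Group G] where
  x : G
  y : G
  z : G
  base : ∀ r ∈ baseZ, wval (letters x y z) r = 1
  psi : G →* Matˣ
  hx : psi x = mX
  hy : psi y = mY
  hz : psi z = mZ

variable {G : Type*} [Group G] (S : Setup G)

/-- The letters of the group. -/
def Setup.L : ℕ → G := letters S.x S.y S.z
/-- The letters with the last one replaced by the unit. -/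
def Setup.U : ℕ → G := letters S.x S.y 1

theorem inv_ok {G : Type*} [Group G] (x y z : G) (hz : z * z = 1) (C : Cert) (hn : C.ng = 5)
    (hi : C.iv = [1, 0, 3, 2, 4]) : C.InvOK (letters x y z) := by
  intro l hl
  rw [hn] at hl
  have e : z⁻¹ = z := inv_eq_of_mul_eq_one_left hz
  interval_cases l <;> simp [Cert.linv, hn, hi, letters, e]

theorem inv_ok4 {G : Type*} [Group G] (a b : G) (C : Cert) (hn : C.ng = 4)
    (hi : C.iv = [1, 0, 3, 2, 4]) : C.InvOK (letters a b 1) := by
  intro l hl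
  rw [hn] at hl
  interval_cases l <;> simp [Cert.linv, hn, hi, letters]

theorem Setup.z_sq : S.z * S.z = 1 := by
  simpa [wval, letters] using S.base [4, 4] (by decide)

theorem Setup.zxzx : S.z * S.x * S.z * S.x = 1 := by
  simpa [wval, letters, mul_assoc] using S.base [4, 0, 4, 0] (by decide)

theorem Setup.x_four : S.x ^ 4 = 1 := by
  have h := RelX4.target_mem S.L (K := ⊥) (inv_ok _ _ _ S.z_sq _ rfl rfl)
    (fromBase_sound (inv_ok _ _ _ S.z_sq RelX4.cert rfl rfl) (base := baseZ) (by decide +kernel) S.base)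
    (by simp [RelX4.cert])
  rw [Subgroup.mem_bot] at h
  simpa [RelX4.target, wval, Setup.L, letters, pow_succ, mul_assoc] using h

theorem Setup.y_six : S.y ^ 6 = 1 := by
  simpa [wval, letters, pow_succ, mul_assoc] using S.base [2, 2, 2, 2, 2, 2] (by decide)

theorem Setup.sq_y : S.x ^ 2 * S.y = S.y * S.x ^ 2 := by
  have h : S.x ^ 2 * S.y * S.x ^ 2 * S.y⁻¹ = 1 := by
    simpa [wval, letters, pow_two, mul_assoc] using S.base [0, 0, 2, 0, 0, 3] (by decide)
  have h2 : S.x ^ 2 * S.x ^ 2 = 1 := by rw [← pow_add]; exact S.x_four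
  calc S.x ^ 2 * S.y = S.x ^ 2 * S.y * (S.x ^ 2 * S.x ^ 2) := by rw [h2, mul_one]
    _ = (S.x ^ 2 * S.y * S.x ^ 2 * S.y⁻¹) * (S.y * S.x ^ 2) := by group
    _ = S.y * S.x ^ 2 := by rw [h, one_mul]

theorem Setup.sq_z : S.x ^ 2 * S.z = S.z * S.x ^ 2 := by
  have e : S.z * S.x * S.z = S.x⁻¹ := eq_inv_of_mul_eq_one_left S.zxzx
  have hz : S.z⁻¹ = S.z := inv_eq_of_mul_eq_one_left S.z_sq
  have e2 : S.z * S.x * S.z * (S.z * S.x * S.z) = S.x ^ 2 := by
    rw [e, ← mul_inv_rev, inv_eq_iff_mul_eq_one, ← pow_two, ← pow_add]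
    exact S.x_four
  calc S.x ^ 2 * S.z = S.z * S.x * S.z * (S.z * S.x * S.z) * S.z := by rw [e2]
    _ = S.z * (S.x * (S.z * S.z) * S.x) * (S.z * S.z) := by group
    _ = S.z * S.x ^ 2 := by rw [S.z_sq, mul_one, mul_one, pow_two]

theorem U_congr {w : List ℕ} (h : ∀ l ∈ w, l < 4) : wval S.U w = wval S.L w :=
  wval_congr fun l hl => by
    have := h l hl
    interval_cases l <;> rfl

theorem Setup.baseU_ok : ∀ r ∈ baseU, wval S.U r = 1 := by
  intro r hr
  simp only [baseU, List.mem_cons, List.not_mem_nil, or_false] at hr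
  rcases hr with rfl | rfl | rfl | rfl | rfl | rfl | rfl | rfl
  all_goals first
    | (rw [U_congr S (by decide)]; exact S.base _ (by decide))
    | (simp [wX4, wval, Setup.U, letters]; done)
    | (simpa [wX4, wval, Setup.U, letters, pow_succ, mul_assoc] using S.x_four)

theorem psi_wval (w : List ℕ) : S.psi (wval S.L w) = wval (letters mX mY mZ) w := by
  rw [map_wval]
  exact wval_congr fun l _ => by rw [Setup.L, map_letters, S.hx, S.hy, S.hz]

/-- Closure under right multiplication by generators of finite order. -/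
theorem closure_forms {T : Set G} {P : G → Prop} (n : ℕ) (hn : ∀ t ∈ T, t ^ (n + 1) = 1) (h1 : P 1)
    (hr : ∀ g, ∀ t ∈ T, P g → P (g * t)) {g : G} (hg : g ∈ Subgroup.closure T) : P g := by
  have hp : ∀ k g, ∀ t ∈ T, P g → P (g * t ^ k) := by
    intro k
    induction k with
    | zero => intro g t _ h; simpa using h
    | succ k ih => intro g t ht h; rw [pow_succ, ← mul_assoc]; exact hr _ t ht (ih g t ht h)
  induction hg using Subgroup.closure_induction_right with
  | one => exact h1
  | mul_right a _ b hb ih => exact hr _ b hb ih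
  | mul_inv_cancel a _ b hb ih =>
    rw [show b⁻¹ = b ^ n from inv_eq_of_mul_eq_one_left (by rw [← pow_succ]; exact hn b hb)]
    exact hp n a b hb ih

/-- The subgroup of order at most 16. -/
def Setup.A16 : Subgroup G := Subgroup.closure {S.x * S.y, S.x ^ 2}
/-- The subgroup of order at most 12. -/
def Setup.A12 : Subgroup G := Subgroup.closure {S.x, S.y⁻¹ * S.x * S.y}

/-- The words of the first subgroup. -/
def forms16 (i j : ℕ) : List ℕ := (List.replicate i [0, 2]).flatten ++ (List.replicate j [0, 0]).flatten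
/-- The words of the second subgroup. -/
def forms12 (i k : ℕ) : List ℕ := List.replicate i 0 ++ (List.replicate k [1, 3, 0, 2]).flatten

theorem forms_move :
    ((List.range 8).all fun i => (List.range 2).all fun j => (i == 0 && j == 0) || moves (forms16 i j)) = true ∧
    ((List.range 4).all fun i => (List.range 3).all fun k => (i == 0 && k == 0) || moves (forms12 i k)) = true := by
  decide +kernel

theorem wval_append {H : Type*} [Group H] (im : ℕ → H) (v w : List ℕ) :
    wval im (v ++ w) = wval im v * wval im w := by simp [wval]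

theorem wval_flatten_rep {H : Type*} [Group H] (im : ℕ → H) (w : List ℕ) :
    ∀ i : ℕ, wval im (List.replicate i w).flatten = wval im w ^ i
  | 0 => by simp [wval]
  | i + 1 => by
    rw [List.replicate_succ, List.flatten_cons, pow_succ', ← wval_flatten_rep im w i]
    simp [wval]

theorem Setup.mem16 {g : G} (hg : g ∈ S.A16) : ∃ i < 8, ∃ j < 2, g = wval S.L (forms16 i j) := by
  have hval : ∀ i j : ℕ, wval S.L (forms16 i j) = (S.x * S.y) ^ i * (S.x ^ 2) ^ j := fun i j => by
    have e : wval S.L [0, 2] = S.x * S.y ∧ wval S.L [0, 0] = S.x ^ 2 := by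
      simp [wval, Setup.L, letters, pow_two]
    rw [forms16, wval_append, wval_flatten_rep, wval_flatten_rep, e.1, e.2]
  have h8 : (S.x * S.y) ^ 8 = 1 := by
    simpa [wval, letters, pow_succ, mul_assoc] using S.base [0,2,0,2,0,2,0,2,0,2,0,2,0,2,0,2] (by decide)
  have hc : Commute (S.x ^ 2) (S.x * S.y) := ((Commute.refl S.x).pow_left 2).mul_right S.sq_y
  have h2 : (S.x ^ 2) ^ 2 = 1 := by rw [← pow_mul]; exact S.x_four
  obtain ⟨i, j, rfl⟩ : ∃ i j : ℕ, g = (S.x * S.y) ^ i * (S.x ^ 2) ^ j := by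
    refine closure_forms (P := fun g => ∃ i j : ℕ, g = (S.x * S.y) ^ i * (S.x ^ 2) ^ j) 7 ?_ ⟨0, 0, by simp⟩
      ?_ hg
    · rintro t (rfl | rfl)
      · exact h8
      · rw [show (7 : ℕ) + 1 = 2 * 4 from rfl, pow_mul, h2, one_pow]
    · rintro _ t (rfl | rfl) ⟨i, j, rfl⟩
      · exact ⟨i + 1, j, by rw [pow_succ (S.x * S.y) i, mul_assoc, (hc.pow_left j).eq, ← mul_assoc]⟩
      · exact ⟨i, j + 1, by rw [pow_succ (S.x ^ 2) j, mul_assoc]⟩
  refine ⟨i % 8, Nat.mod_lt _ (by norm_num), j % 2, Nat.mod_lt _ (by norm_num), ?_⟩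
  rw [hval, ← pow_eq_pow_mod i h8, ← pow_eq_pow_mod j h2]

theorem Setup.mem12 {g : G} (hg : g ∈ S.A12) : ∃ i < 4, ∃ k < 3, g = wval S.L (forms12 i k) := by
  set d := S.x⁻¹ * (S.y⁻¹ * S.x * S.y) with hd
  have hval : ∀ i k : ℕ, wval S.L (forms12 i k) = S.x ^ i * d ^ k := fun i k => by
    have e : wval S.L [1, 3, 0, 2] = d := by simp [wval, Setup.L, letters, hd, mul_assoc]
    rw [forms12, wval_append, wval_flatten_rep, e]
    simp [wval, List.map_replicate, List.prod_replicate, Setup.L, letters]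
  have h3 : d ^ 3 = 1 := by
    simpa [wval, letters, pow_succ, mul_assoc, hd] using S.base [1,3,0,2,1,3,0,2,1,3,0,2] (by decide)
  have h4 : (S.y⁻¹ * S.x * S.y) ^ 4 = 1 := by
    calc (S.y⁻¹ * S.x * S.y) ^ 4 = S.y⁻¹ * S.x ^ 4 * S.y := by simp [pow_succ, mul_assoc]
      _ = 1 := by rw [S.x_four]; group
  have hxd : d * S.x = S.x * d ^ 2 := by
    have e2 : (S.y⁻¹ * S.x * S.y) * (S.y⁻¹ * S.x * S.y) = S.x ^ 2 := by
      calc _ = S.y⁻¹ * (S.x ^ 2 * S.y) := by rw [pow_two]; group
        _ = S.x ^ 2 := by rw [S.sq_y]; group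
    have ed : d ^ 2 = d⁻¹ := eq_inv_of_mul_eq_one_left (by rw [← pow_succ]; exact h3)
    rw [ed, hd]
    calc _ = S.x * (S.x ^ 2)⁻¹ * (S.y⁻¹ * S.x * S.y) * (S.y⁻¹ * S.x * S.y) * (S.y⁻¹ * S.x * S.y)⁻¹ * S.x := by
          group
      _ = S.x * (S.x ^ 2)⁻¹ * ((S.y⁻¹ * S.x * S.y) * (S.y⁻¹ * S.x * S.y)) * (S.y⁻¹ * S.x * S.y)⁻¹ * S.x := by
          group
      _ = _ := by rw [e2]; group
  obtain ⟨i, k, rfl⟩ : ∃ i k : ℕ, g = S.x ^ i * d ^ k := by
    refine closure_forms (P := fun g => ∃ i k : ℕ, g = S.x ^ i * d ^ k) 3 ?_ ⟨0, 0, by simp⟩ ?_ hg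
    · rintro t (rfl | rfl)
      exacts [S.x_four, h4]
    · have hmove : ∀ k : ℕ, d ^ k * S.x = S.x * d ^ (2 * k) := by
        intro k
        induction k with
        | zero => simp
        | succ k ih => rw [pow_succ, mul_assoc, hxd, ← mul_assoc, ih, mul_assoc, ← pow_add, mul_add, mul_one]
      rintro _ t (rfl | rfl) ⟨i, k, rfl⟩
      · exact ⟨i + 1, 2 * k, by rw [mul_assoc, hmove, pow_succ, mul_assoc]⟩
      · refine ⟨i + 1, 2 * k + 1, ?_⟩
        rw [show S.y⁻¹ * S.x * S.y = S.x * d by rw [hd, mul_inv_cancel_left], mul_assoc, ← mul_assoc (d ^ k),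
          hmove, pow_succ, pow_succ]
        simp [mul_assoc]
  refine ⟨i % 4, Nat.mod_lt _ (by norm_num), k % 3, Nat.mod_lt _ (by norm_num), ?_⟩
  rw [hval, ← pow_eq_pow_mod i S.x_four, ← pow_eq_pow_mod k h3]

theorem Setup.trivial16 {w : List ℕ} (hm : moves w = false) (h : wval S.L w ∈ S.A16) : wval S.L w = 1 := by
  obtain ⟨i, hi, j, hj, e⟩ := S.mem16 h
  have h' := congrArg S.psi e
  rw [psi_wval, psi_wval] at h'
  have h0 := moves_congr h' hm
  have ht := List.all_eq_true.1 (List.all_eq_true.1 forms_move.1 i (List.mem_range.2 hi)) j (List.mem_range.2 hj)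
  simp only [h0, Bool.or_false, Bool.and_eq_true, beq_iff_eq] at ht
  rw [e, ht.1, ht.2]
  simp [forms16, wval]

theorem Setup.trivial12 {w : List ℕ} (hm : moves w = false) (h : wval S.L w ∈ S.A12) : wval S.L w = 1 := by
  obtain ⟨i, hi, k, hk, e⟩ := S.mem12 h
  have h' := congrArg S.psi e
  rw [psi_wval, psi_wval] at h'
  have h0 := moves_congr h' hm
  have ht := List.all_eq_true.1 (List.all_eq_true.1 forms_move.2 i (List.mem_range.2 hi)) k (List.mem_range.2 hk)
  simp only [h0, Bool.or_false, Bool.and_eq_true, beq_iff_eq] at ht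
  rw [e, ht.1, ht.2]
  simp [forms12, wval]

theorem sub16 : ∀ s ∈ [[0, 2], [0, 0]], wval S.U s ∈ S.A16 := by
  intro s hs
  rcases List.mem_pair.1 hs with rfl | rfl <;>
    exact Subgroup.subset_closure (by simp [wval, Setup.U, letters, pow_two])

theorem sub12 : ∀ s ∈ [[0], [3, 0, 2]], wval S.U s ∈ S.A12 := by
  intro s hs
  rcases List.mem_pair.1 hs with rfl | rfl <;>
    exact Subgroup.subset_closure (by simp [wval, Setup.U, letters, mul_assoc])

theorem cons_ok {ws : List (List ℕ)} {w : List ℕ} (h : ∀ r ∈ ws, wval S.U r = 1) (hw : ∀ l ∈ w, l < 4)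
    (h1 : wval S.L w = 1) : ∀ r ∈ ws ++ [w], wval S.U r = 1 := by
  intro r hr
  rcases List.mem_append.1 hr with hr | hr
  · exact h r hr
  · rw [List.mem_singleton.1 hr, U_congr S hw, h1]

theorem moves_targets : moves wK1 = false ∧ moves wK2 = false ∧ moves wAB = false ∧ moves wW = false ∧
    moves wT = false := by decide +kernel

theorem Setup.allU_ok : ∀ r ∈ allU, wval S.U r = 1 := by
  have inv : ∀ C : Cert, C.ng = 5 → C.iv = [1, 0, 3, 2, 4] → C.InvOK S.U :=
    fun C => inv_ok _ _ _ (mul_one 1) C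
  have k1 : wval S.L wK1 = 1 := by
    refine S.trivial16 moves_targets.1 ?_
    have h := RelK1.target_mem S.U (inv _ rfl rfl) (fromBase_sound (inv RelK1.cert rfl rfl) (base := baseU)
      (by decide +kernel) S.baseU_ok) (sub16 S)
    rwa [show RelK1.target = wK1 from rfl, U_congr S (by decide)] at h
  have b1 := cons_ok S S.baseU_ok (w := wK1) (by decide) k1
  have k2 : wval S.L wK2 = 1 := by
    refine S.trivial16 moves_targets.2.1 ?_
    have h := RelK2.target_mem S.U (inv _ rfl rfl) (fromBase_sound (inv RelK2.cert rfl rfl) (base := baseU ++ [wK1])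
      (by decide +kernel) b1) (sub16 S)
    rwa [show RelK2.target = wK2 from rfl, U_congr S (by decide)] at h
  have b2 := cons_ok S b1 (w := wK2) (by decide) k2
  have hW : wval S.L wW = 1 := by
    refine S.trivial12 moves_targets.2.2.2.1 ?_
    have h := RelW.target_mem S.U (inv _ rfl rfl) (fromBase_sound (inv RelW.cert rfl rfl) (base := baseU ++ [wK1])
      (by decide +kernel) b1) (sub12 S)
    rwa [show RelW.target = wW from rfl, U_congr S (by decide)] at h
  have b3 := cons_ok S b2 (w := wW) (by decide) hW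
  have hA : wval S.L wAB = 1 := by
    refine S.trivial16 moves_targets.2.2.1 ?_
    have h := Rel5.target_mem S.U (inv _ rfl rfl) (fromBase_sound (inv Rel5.cert rfl rfl)
      (base := baseU ++ [wK1] ++ [wK2] ++ [wW]) (by decide +kernel) b3) (sub16 S)
    rwa [show Rel5.target = wAB from rfl, U_congr S (by decide)] at h
  have b4 := cons_ok S b3 (w := wAB) (by decide) hA
  have hT : wval S.L wT = 1 := by
    refine S.trivial12 moves_targets.2.2.2.2 ?_
    have h := RelT.target_mem S.U (inv _ rfl rfl) (fromBase_sound (inv RelT.cert rfl rfl)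
      (base := baseU ++ [wK1] ++ [wK2] ++ [wW] ++ [wAB]) (by decide +kernel) b4) (sub12 S)
    rwa [show RelT.target = wT from rfl, U_congr S (by decide)] at h
  have b5 := cons_ok S b4 (w := wT) (by decide) hT
  intro r hr
  refine b5 r ?_
  simp only [allU, List.mem_append, List.mem_cons, List.not_mem_nil, or_false] at hr ⊢
  tauto

/-- The square of y. -/
def Setup.a : G := S.y ^ 2
/-- Its conjugate by x. -/
def Setup.b : G := S.x⁻¹ * S.y ^ 2 * S.x
/-- The subgroup on the two conjugates. -/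
def Setup.C : Subgroup G := Subgroup.closure {S.a, S.b}
/-- The subgroup on x and the square of y. -/
def Setup.A : Subgroup G := Subgroup.closure {S.x, S.y ^ 2}
/-- The subgroup on x and y. -/
def Setup.B : Subgroup G := Subgroup.closure {S.x, S.y}

theorem card_zpowers_le {g : G} {n : ℕ} (hn : 0 < n) (h : g ^ n = 1) :
    Finite (Subgroup.zpowers g) ∧ Nat.card (Subgroup.zpowers g) ≤ n := by
  have ho : orderOf g ∣ n := orderOf_dvd_of_pow_eq_one h
  have hf : IsOfFinOrder g := isOfFinOrder_iff_pow_eq_one.2 ⟨n, hn, h⟩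
  exact ⟨Nat.finite_of_card_ne_zero (by rw [Nat.card_zpowers]; exact hf.orderOf_pos.ne'),
    by rw [Nat.card_zpowers]; exact Nat.le_of_dvd hn ho⟩

theorem Setup.a_three : S.a ^ 3 = 1 := by rw [Setup.a, ← pow_mul]; exact S.y_six

theorem Setup.card_C : Finite S.C ∧ Nat.card S.C ≤ 2520 * 3 := by
  obtain ⟨hf, hle⟩ := card_zpowers_le (by norm_num) S.a_three
  have inv := inv_ok4 S.a S.b TabC.cert rfl rfl
  have hb : ∀ r ∈ baseC, wval (letters S.a S.b 1) r = 1 := by
    intro r hr
    simp only [baseC, List.mem_cons, List.not_mem_nil, or_false] at hr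
    have hu := fun r (h : r ∈ allU) => S.allU_ok r h
    rcases hr with rfl | rfl | rfl | rfl | rfl
    · simpa [wval, letters, pow_succ, mul_assoc] using S.a_three
    · have : (S.x⁻¹ * S.y ^ 2 * S.x) ^ 3 = 1 := by
        calc _ = S.x⁻¹ * (S.y ^ 2) ^ 3 * S.x := by simp [pow_succ, mul_assoc]
          _ = 1 := by rw [← pow_mul, S.y_six]; group
      simpa [wval, letters, Setup.b, pow_succ, mul_assoc] using this
    · simpa [wval, letters, wAB, Setup.U, Setup.a, Setup.b, pow_two, mul_assoc, mul_inv_rev] using hu wAB (by decide)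
    · simpa [wval, letters, wW, Setup.U, Setup.a, Setup.b, pow_two, mul_assoc, mul_inv_rev] using hu wW (by decide)
    · simpa [wval, letters, wT, Setup.U, Setup.a, Setup.b, pow_two, mul_assoc, mul_inv_rev] using hu wT (by decide)
  have h := card_le TabC.cert (letters S.a S.b 1) (K := Subgroup.zpowers S.a) (L := S.C) TabC.valid inv
    (fromBase_sound inv (base := baseC) (by decide +kernel) hb)
    (by intro s hs; simp only [TabC.cert, List.mem_singleton] at hs; subst hs; simp [wval, letters])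
    (Subgroup.closure_mono fun g hg => by
      rcases hg with rfl | rfl
      exacts [⟨0, by decide, rfl⟩, ⟨2, by decide, rfl⟩])
  refine ⟨h.1, h.2.trans ?_⟩
  rw [TabC.fins_length]
  exact Nat.mul_le_mul_left _ hle

theorem Setup.card_A : Finite S.A ∧ Nat.card S.A ≤ 4 * (2520 * 3) := by
  obtain ⟨hf, hle⟩ := S.card_C
  have hxa : ∀ i < 4, ∃ c ∈ S.C, S.x ^ i * S.y ^ 2 = c * S.x ^ i := by
    have hc : Commute (S.x ^ 2) (S.y ^ 2) := (show Commute (S.x ^ 2) S.y from S.sq_y).pow_right 2
    have e1 : S.x * S.y ^ 2 = S.b * S.x := by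
      rw [Setup.b]
      calc S.x * S.y ^ 2 = S.x⁻¹ * (S.x ^ 2 * S.y ^ 2) := by group
        _ = S.x⁻¹ * S.y ^ 2 * S.x * S.x := by rw [hc.eq, pow_two S.x]; group
    have ha : S.a ∈ S.C := Subgroup.subset_closure (Set.mem_insert _ _)
    have hb : S.b ∈ S.C := Subgroup.subset_closure (Set.mem_insert_of_mem _ rfl)
    intro i hi
    interval_cases i
    · exact ⟨S.a, ha, by simp [Setup.a]⟩
    · exact ⟨S.b, hb, by rw [pow_one, e1]⟩
    · exact ⟨S.a, ha, by rw [hc.eq]; rfl⟩
    · refine ⟨S.b, hb, ?_⟩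
      calc S.x ^ 3 * S.y ^ 2 = S.x * (S.x ^ 2 * S.y ^ 2) := by group
        _ = S.x * S.y ^ 2 * S.x ^ 2 := by rw [hc.eq]; group
        _ = S.b * S.x ^ 3 := by rw [e1]; group
  have key : ∀ g ∈ S.A, ∃ c : S.C, ∃ i : Fin 4, g = (c : G) * S.x ^ i.val := by
    intro g hg
    obtain ⟨c, hc, i, rfl⟩ : ∃ c ∈ S.C, ∃ i : ℕ, g = c * S.x ^ i := by
      refine closure_forms (P := fun g => ∃ c ∈ S.C, ∃ i : ℕ, g = c * S.x ^ i) 11 ?_ ⟨1, one_mem _, 0, by simp⟩
        ?_ hg
      · rintro t (rfl | rfl)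
        · rw [show (11 : ℕ) + 1 = 4 * 3 from rfl, pow_mul, S.x_four, one_pow]
        · rw [show (11 : ℕ) + 1 = 6 * 2 from rfl, ← pow_mul, mul_comm, pow_mul, pow_mul, S.y_six]; simp
      · rintro _ t (rfl | rfl) ⟨c, hc, i, rfl⟩
        · exact ⟨c, hc, i + 1, by rw [pow_succ, mul_assoc]⟩
        · obtain ⟨d, hd, e⟩ := hxa (i % 4) (Nat.mod_lt _ (by norm_num))
          exact ⟨c * d, mul_mem hc hd, i % 4, by rw [mul_assoc, pow_eq_pow_mod i S.x_four, e, ← mul_assoc]⟩
    exact ⟨⟨c, hc⟩, ⟨i % 4, Nat.mod_lt _ (by norm_num)⟩, by simp only; rw [← pow_eq_pow_mod i S.x_four]⟩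
  choose c i hci using key
  let f : S.A → Fin 4 × S.C := fun g => (i g g.2, c g g.2)
  have hf' : Function.Injective f := fun g h e => by
    simp only [f, Prod.mk.injEq] at e
    exact Subtype.ext (by rw [hci g g.2, hci h h.2, e.1, e.2])
  refine ⟨Finite.of_injective f hf', (Nat.card_le_card_of_injective f hf').trans ?_⟩
  rw [Nat.card_prod, Nat.card_eq_fintype_card (α := Fin 4), Fintype.card_fin]
  exact Nat.mul_le_mul_left _ hle

theorem Setup.card_B : Finite S.B ∧ Nat.card S.B ≤ 50 * (4 * (2520 * 3)) := by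
  obtain ⟨hf, hle⟩ := S.card_A
  have inv := inv_ok S.x S.y (1 : G) (mul_one 1) TabA.cert rfl rfl
  have h := card_le TabA.cert S.U (K := S.A) (L := S.B) TabA.valid inv
    (fromBase_sound inv (base := allU) (by decide +kernel) S.allU_ok)
    (by
      intro s hs
      simp only [TabA.cert, List.mem_cons, List.not_mem_nil, or_false] at hs
      rcases hs with rfl | rfl <;> exact Subgroup.subset_closure (by simp [wval, Setup.U, letters, pow_two]))
    (Subgroup.closure_mono fun g hg => by
      rcases hg with rfl | rfl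
      exacts [⟨0, by decide, rfl⟩, ⟨2, by decide, rfl⟩])
  refine ⟨h.1, h.2.trans ?_⟩
  rw [TabA.fins_length]
  exact Nat.mul_le_mul_left _ hle

/-- The order bound. -/
theorem Setup.card_top (h : Subgroup.closure {S.x, S.y, S.z} = ⊤) :
    Finite G ∧ Nat.card G ≤ 532224000 := by
  obtain ⟨hf, hle⟩ := S.card_B
  have inv := inv_ok S.x S.y S.z S.z_sq TabN.cert rfl rfl
  have hb : ∀ r ∈ allZ, wval S.L r = 1 := by
    intro r hr
    simp only [allZ, List.mem_append] at hr
    rcases hr with hr | hr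
    · exact S.base r hr
    · have hw : ∀ l ∈ r, l < 4 := by
        simp only [List.mem_cons, List.not_mem_nil, or_false] at hr
        rcases hr with rfl | rfl | rfl | rfl | rfl | rfl <;> decide
      rw [← U_congr S hw]
      refine S.allU_ok r ?_
      simp only [allU, baseU, List.mem_append, List.mem_cons, List.not_mem_nil, or_false] at hr ⊢
      tauto
  have h' := card_le TabN.cert S.L (K := S.B) (L := ⊤) TabN.valid inv
    (fromBase_sound inv (base := allZ) (by decide +kernel) hb)
    (by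
      intro s hs
      simp only [TabN.cert, List.mem_cons, List.not_mem_nil, or_false] at hs
      rcases hs with rfl | rfl <;> exact Subgroup.subset_closure (by simp [wval, Setup.L, letters]))
    (by
      rw [← h]
      refine Subgroup.closure_mono fun g hg => ?_
      rcases hg with rfl | rfl | rfl
      exacts [⟨0, by decide, rfl⟩, ⟨2, by decide, rfl⟩, ⟨4, by decide, rfl⟩])
  haveI := h'.1
  refine ⟨Finite.of_equiv _ Subgroup.topEquiv.toEquiv, ?_⟩
  rw [← Subgroup.card_top]
  refine h'.2.trans ?_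
  rw [TabN.fins_length]
  exact (Nat.mul_le_mul_left _ hle).trans (le_of_eq (by norm_num))

end Cfsg.Lib.HNPres
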