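import Mathlib

/-!
Generated: x, y, z on the graph on 100 vertices, and words in them for four generators of the Higman-Sims group.
-/

set_option autoImplicit false

namespace Cfsg.Lib.HNPres

def pTabXA : ℕ :=
  0x3600300010003c0014003d000a0032005800230015005b00080042004a0007004b002b002600010035002f002e0011005300550044000c0020000d000e0049001f0056003e001c00020041005e00600031001a0013001800030063004f00220005005c003b0062004e004d0027000600520017000b0019002d0051001d0016005a0034000400470043001200250040000f003a00280038002a00240059005f0039001e004c0061001b0045004600480029005d000000570054002c003300210037003f00500009

def pTabXB : ℕ :=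
  0x3600300010003c0014003d000a0032005800230015005b00080042004a0007004b002b002600010035002f002e0011005300550044000c0020000d000e0049001f0056003e001c00020041005e00600031001a0013001800030063004f00220005005c003b0062004e004d0027000600520017000b0019002d0051001d0016005a0034000400470043001200250040000f003a00280038002a00240059005f0039001e004c0061001b0045004600480029005d000000570054002c003300210037003f00500009

def pTabYA : ℕ :=
  0x1d0005004f0039005f002e0051004c0060004200160043005d0036000e002100270054005800120059002c0038004d00010045003000130062004b002a00460000005a001b00310056002d0040004e000c004a0026001e0002003f0015005000200041003d000d001c005e00440048005b00370024005c00190004001a00030010000f00520033003400280061003b000a00290053001100230063001f0025000b0035000600490022003200170008003c0055002f0009000700180047002b0014003a003e0057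

def pTabYB : ℕ :=
  0x160047001d005b005f002e00570028002b0042004f00510000003f000a005200190021005d00340061003c004c005c0046003a0010002c00050044004a002d0058005a0032003d003600010031000b001c00020060004d002a00560012001f0020000e004000490009005e003e004e00040045001a001e00530039001400290017000f00540033001500380063002f0041002500270006000d0059003500030048005000180023002200550030003b0013001b0008000c000700110062002600240037004b0043

def pTabZA : ℕ :=
  0x360030001000450014003d005d0033005b005a00550058005300420059005400570004005100500039002f002e004c000800150046000c001200490060000d00430056004100400002003e005e000e003b003a004f0038000300630013000f005c000500310062004e004d00090006002100170029001900000026001d00240023001b002b001e001f00200025001c0022001a00280018002a0016004a005f00350047001100610034003c00440048000b000a002d004b0007002c003200520037003f00010027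

def pTabZB : ℕ :=
  0x360030001000450014003d005d0033005b005a00550058005300420059005400570004005100500039002f002e004c000800150046000c001200490060000d00430056004100400002003e005e000e003b003a004f0038000300630013000f005c000500310062004e004d00090006002100170029001900000026001d00240023001b002b001e001f00200025001c0022001a00280018002a0016004a005f00350047001100610034003c00440048000b000a002d004b0007002c003200520037003f00010027

def hsWords : List (List ℕ) :=
  [[0,2,0,4,3,4,3,4,3,4,3,4,2,4,2,4,2,4,0,4,2,4,0,4,3,4],
   [0,4,3,4,3,4,3,4,0,4,3,4,4,3,4,0,2,2,4,2,4,2,4,2,4,0],
   [4,3,4,0,3,0,4,2,4,2,2,2,0,3,0,4,2,4,4,2,4],
   [2,4,2,4,3,3,4,3,4,3,3,4,2,4,4,2,4,2,4,2,4,3]]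

end Cfsg.Lib.HNPres
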