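import Cfsg.Agent.HNPres.Words
import Cfsg.Agent.HNPres.PermData
import Cfsg.Agent.HSModel.CovMult
import Cfsg.Agent.HSModel.Outer

/-!
The action of x, y, z on the graph on 100 vertices of the Higman-Sims group.
-/

set_option autoImplicit false
set_option Elab.async false

namespace Cfsg.Lib.HNPres

open Cfsg.Lib.CosetNames

/-- The permutation of x. -/
def pX : Equiv.Perm (Fin 100) := Cfsg.Lib.PermCert.perm 100 (pTabXA, pTabXB)
/-- The permutation of y. -/
def pY : Equiv.Perm (Fin 100) := Cfsg.Lib.PermCert.perm 100 (pTabYA, pTabYB)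
/-- The permutation of z. -/
def pZ : Equiv.Perm (Fin 100) := Cfsg.Lib.PermCert.perm 100 (pTabZA, pTabZB)

/-- The tables of the five letters. -/
def pTabs : List Cfsg.Lib.PermCert.PP :=
  [(pTabXA, pTabXB), (pTabXB, pTabXA), (pTabYA, pTabYB), (pTabYB, pTabYA), (pTabZA, pTabZB)]

theorem pTabs_valid : pTabs.all (Cfsg.Lib.PermCert.valid 100) = true := by decide +kernel

theorem letters_perm : ∀ l : Fin 5,
    letters pX pY pZ l.val = Cfsg.Lib.PermCert.perm 100 (pTabs.getD l.val (0, 0)) := by decide +kernel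

theorem pTabs_act : ∀ l < pTabs.length, Cfsg.Lib.PermCert.valid 100 (pTabs.getD l (0, 0)) = true ∧
    (MonoidHom.id (Equiv.Perm (Fin 100))) (letters pX pY pZ l) =
      Cfsg.Lib.PermCert.perm 100 (pTabs.getD l (0, 0)) := fun l hl => by
  refine ⟨?_, letters_perm ⟨l, hl⟩⟩
  rw [List.getD_eq_getElem _ _ hl]
  exact List.all_eq_true.1 pTabs_valid _ (List.getElem_mem hl)

theorem rels_eval : (baseZ.all fun r => r.all (fun a => decide (a < 5)) &&
    (List.range 100).all fun i => Cfsg.Lib.CosetCert.evalW pTabs r i == i) = true := by decide +kernel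

theorem perm_rels : ∀ r ∈ baseZ, wval (letters pX pY pZ) r = 1 := by
  intro r hr
  have h := List.all_eq_true.1 rels_eval r hr
  simp only [Bool.and_eq_true, List.all_eq_true, decide_eq_true_eq, beq_iff_eq, List.mem_range] at h
  refine inv_eq_one.1 (Equiv.ext fun i => Fin.ext ?_)
  have e := Cfsg.Lib.CosetCert.evalW_apply (letters pX pY pZ) (MonoidHom.id _) pTabs pTabs_act r h.1 i
  exact e.trans (h.2 i.val i.isLt)

theorem aut_eval : ([0, 2, 4].all fun l => (List.range 100).all fun a => (List.range 100).all fun b =>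
    Cfsg.Lib.HSModel.adjB (Cfsg.Lib.PermCert.ap (pTabs.getD l (0, 0)).1 a)
      (Cfsg.Lib.PermCert.ap (pTabs.getD l (0, 0)).1 b) == Cfsg.Lib.HSModel.adjB a b) = true := by decide +kernel

theorem perm_aut : ∀ p ∈ [pX, pY, pZ], ∀ a b : Fin 100,
    Cfsg.Lib.HSModel.adjB (p a).val (p b).val = Cfsg.Lib.HSModel.adjB a.val b.val := by
  intro p hp a b
  obtain ⟨l, hl, hl5, rfl⟩ : ∃ l, l ∈ [0, 2, 4] ∧ l < pTabs.length ∧ letters pX pY pZ l = p := by
    simp only [List.mem_cons, List.not_mem_nil, or_false] at hp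
    rcases hp with rfl | rfl | rfl
    exacts [⟨0, by decide, by decide, rfl⟩, ⟨2, by decide, by decide, rfl⟩, ⟨4, by decide, by decide, rfl⟩]
  have h := pTabs_act l hl5
  simp only [MonoidHom.id_apply] at h
  rw [h.2, Cfsg.Lib.PermCert.perm_apply h.1, Cfsg.Lib.PermCert.perm_apply h.1]
  exact beq_iff_eq.1 (List.all_eq_true.1 (List.all_eq_true.1 (List.all_eq_true.1 aut_eval l hl) a.val
    (List.mem_range.2 a.isLt)) b.val (List.mem_range.2 b.isLt))

theorem perm_sign : Equiv.Perm.sign pX = 1 ∧ Equiv.Perm.sign pY = 1 ∧ Equiv.Perm.sign pZ = -1 := by decide +kernel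

theorem hs_eval : ((List.range 4).all fun l => (hsWords.getD l []).all (fun a => decide (a < 5)) &&
    (List.range 100).all fun i => Cfsg.Lib.CosetCert.evalW pTabs (hsWords.getD l []) i ==
      Cfsg.Lib.CosetCert.evalW Cfsg.Lib.HSModel.xTabs [l] i) = true := by decide +kernel

theorem hs_words : ∀ l : Fin 4, wval (letters pX pY pZ) (hsWords.getD l.val []) = Cfsg.Lib.HSModel.imH l.val ∧
    (hsWords.getD l.val []).all (fun a => decide (a < 5)) = true := by
  intro l
  have h := List.all_eq_true.1 hs_eval l.val (List.mem_range.2 l.isLt)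
  rw [Bool.and_eq_true] at h
  refine ⟨?_, h.1⟩
  rw [← Cfsg.Lib.HSModel.wval_one]
  refine inv_injective (Equiv.ext fun i => Fin.ext ?_)
  have e := Cfsg.Lib.CosetCert.evalW_apply (letters pX pY pZ) (MonoidHom.id _) pTabs pTabs_act
    (hsWords.getD l.val []) (fun a ha => of_decide_eq_true (List.all_eq_true.1 h.1 a ha)) i
  have hX : Cfsg.Lib.HSModel.inX [l.val] = true := by
    simp [Cfsg.Lib.HSModel.inX]
    omega
  rw [Cfsg.Lib.HSModel.evalX hX]
  exact e.trans (beq_iff_eq.1 (List.all_eq_true.1 h.2 i.val (List.mem_range.2 i.isLt)))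

theorem mem_toP {p : Equiv.Perm (Fin 100)} (hp : p ∈ [pX, pY, pZ]) : p ∈ Cfsg.Lib.HSModel.toP.range :=
  Cfsg.Lib.HSModel.mem_range_toP (perm_aut p hp)

theorem closure_pgens : Subgroup.closure {pX, pY, pZ} = Cfsg.Lib.HSModel.toP.range := by
  set P := Subgroup.closure ({pX, pY, pZ} : Set (Equiv.Perm (Fin 100))) with hP
  have hgen : ∀ l < 5, letters pX pY pZ l ∈ P := by
    have hx : pX ∈ P := Subgroup.subset_closure (by simp)
    have hy : pY ∈ P := Subgroup.subset_closure (by simp)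
    have hz : pZ ∈ P := Subgroup.subset_closure (by simp)
    intro l hl
    interval_cases l
    exacts [hx, inv_mem hx, hy, inv_mem hy, hz]
  have hgrp : Cfsg.Lib.HSModel.grp ≤ P := by
    rw [← Cfsg.Lib.HSModel.closure_eq, Subgroup.closure_le]
    rintro _ ⟨l, hl, rfl⟩
    have h := hs_words ⟨l, hl⟩
    rw [← h.1]
    refine list_prod_mem fun q hq => ?_
    obtain ⟨a, ha, rfl⟩ := List.mem_map.1 hq
    exact hgen a (of_decide_eq_true (List.all_eq_true.1 h.2 a ha))
  have hzP : pZ ∈ P := hgen 4 (by norm_num)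
  refine le_antisymm ((Subgroup.closure_le _).2 ?_) fun p hp => ?_
  · rintro q (rfl | rfl | rfl) <;> exact mem_toP (by simp)
  rcases Int.units_eq_one_or (Equiv.Perm.sign p) with h | h
  · exact hgrp ⟨hp, MonoidHom.mem_ker.2 h⟩
  · have h' : p * pZ ∈ Cfsg.Lib.HSModel.grp :=
      ⟨mul_mem hp (mem_toP (by simp)), MonoidHom.mem_ker.2 (by rw [map_mul, h, perm_sign.2.2]; rfl)⟩
    rw [show p = p * pZ * pZ⁻¹ by group]
    exact mul_mem (hgrp h') (inv_mem hzP)

end Cfsg.Lib.HNPres
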