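import Cfsg.Agent.HSModel.CovMult
import Cfsg.Agent.HSModel.Outer
import Cfsg.Prelude.Def_SporadicB

/-!
A perfect group over the Higman-Sims group with a small kernel containing a central involution is the double cover.
-/

set_option autoImplicit false

namespace Cfsg.Lib.HNPres

open Cfsg.Lib.HSModel (grp)
open scoped commutatorElement

theorem comm_of_small {M : Type*} [Group M] [Finite M] (hM : Nat.card M ≤ 6) {w : M}
    (hw : w ∈ Subgroup.center M) (hw1 : w ≠ 1) (a b : M) : a * b = b * a := by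
  have h2 : 2 ≤ Nat.card (Subgroup.center M) := by
    rw [← Nat.lt_iff_add_one_le]
    exact Finite.one_lt_card_iff_nontrivial.2 ⟨⟨⟨w, hw⟩, 1, fun e => hw1 (congrArg Subtype.val e)⟩⟩
  have h3 : Nat.card (M ⧸ Subgroup.center M) ≤ 3 := by
    have := Subgroup.card_eq_card_quotient_mul_card_subgroup (Subgroup.center M)
    nlinarith
  have hpos : 0 < Nat.card (M ⧸ Subgroup.center M) := Nat.card_pos
  haveI : IsCyclic (M ⧸ Subgroup.center M) := by
    interval_cases h : Nat.card (M ⧸ Subgroup.center M)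
    · haveI := (Nat.card_eq_one_iff_unique.1 h).1
      exact isCyclic_of_subsingleton
    · exact isCyclic_of_prime_card (hp := ⟨Nat.prime_two⟩) h
    · exact isCyclic_of_prime_card (hp := ⟨Nat.prime_three⟩) h
  exact commutative_of_cyclic_center_quotient (QuotientGroup.mk' (Subgroup.center M)) (by simp) a b

/-- The kernel is central. -/
theorem ker_central {K : Type} [Group K] [Finite K] (π : K →* grp) (hπ : Function.Surjective π)
    (hcard : Nat.card π.ker ≤ 6) {w : K} (hw : w ∈ Subgroup.center K) (hwk : w ∈ π.ker) (hw1 : w ≠ 1) :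
    π.ker ≤ Subgroup.center K := by
  haveI := Cfsg.Lib.HSModel.Cov.grp_simple
  set M := π.ker with hM
  let c : K →* MulAut M := MulAut.conjNormal
  have hab : ∀ a b : M, a * b = b * a := comm_of_small hcard (w := ⟨w, hwk⟩)
    (Subgroup.mem_center_iff.2 fun g => Subtype.ext (Subgroup.mem_center_iff.1 hw g.1))
    fun e => hw1 (congrArg Subtype.val e)
  have hMc : M ≤ c.ker := by
    intro m hm
    rw [MonoidHom.mem_ker]
    refine MulEquiv.ext fun a => Subtype.ext ?_
    have := congrArg Subtype.val (hab ⟨m, hm⟩ a)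
    simp only [Subgroup.coe_mul] at this
    simp [c, MulAut.conjNormal_apply, this]
  haveI : (c.ker.map π).Normal := Subgroup.Normal.map inferInstance _ hπ
  rcases IsSimpleGroup.eq_bot_or_eq_top_of_normal (c.ker.map π) inferInstance with h | h
  · exfalso
    have hle : c.ker ≤ M := by
      exact (Subgroup.map_eq_bot_iff _).1 h
    have h1 : Nat.card K = Nat.card c.range * Nat.card c.ker := by
      rw [← Subgroup.index_ker c, Subgroup.index_mul_card]
    have h2 : Nat.card c.range ≤ 46656 := by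
      haveI : Finite (MulAut M) := Finite.of_injective (fun f => (f : M → M)) DFunLike.coe_injective
      refine (Nat.card_le_card_of_injective (fun f : c.range => ((f : MulAut M) : M → M))
        (fun a b e => Subtype.ext (DFunLike.coe_injective e))).trans ?_
      rw [Nat.card_fun]
      calc Nat.card M ^ Nat.card M ≤ 6 ^ Nat.card M := Nat.pow_le_pow_left hcard _
        _ ≤ 6 ^ 6 := Nat.pow_le_pow_right (by norm_num) hcard
        _ = 46656 := by norm_num
    have h3 : Nat.card c.ker ≤ 6 := (Subgroup.card_le_of_le hle).trans hcard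
    have h4 : 44352000 ≤ Nat.card K := by
      rw [← Cfsg.Lib.HSModel.card_grp]
      exact Nat.card_le_card_of_surjective π hπ
    have : Nat.card K ≤ 46656 * 6 := h1 ▸ Nat.mul_le_mul h2 h3
    omega
  · intro m hm
    rw [Subgroup.mem_center_iff]
    intro k
    obtain ⟨a, ha, hak⟩ : π k ∈ c.ker.map π := h ▸ Subgroup.mem_top _
    have hk : k ∈ c.ker := by
      have e : a⁻¹ * k ∈ M := by simp [hM, hak]
      rw [show k = a * (a⁻¹ * k) by group]
      exact mul_mem ha (hMc e)
    have := congrArg (fun f : MulAut M => (f ⟨m, hm⟩ : M).1) (MonoidHom.mem_ker.1 hk)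
    simp [c, MulAut.conjNormal_apply] at this
    calc k * m = k * m * k⁻¹ * k := by group
      _ = m * k := by rw [this]

/-- The double cover. -/
theorem nonsplit_cover {K : Type} [Group K] [Finite K] (π : K →* grp) (hπ : Function.Surjective π)
    (hperf : commutator K = ⊤) (hcard : Nat.card π.ker ≤ 6) {w : K} (hw : w ∈ Subgroup.center K)
    (hwk : w ∈ π.ker) (hw1 : w ≠ 1) : Cfsg.IsNonsplitDoubleCover K ↥Cfsg.Spor.HS := by
  obtain ⟨e⟩ := Cfsg.Lib.HSModel.exists_equiv
  let τ : K →* ↥Cfsg.Spor.HS := e.symm.toMonoidHom.comp π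
  have hker : τ.ker = π.ker := by
    ext g
    simp [τ]
  have hτ : Function.Surjective τ := e.symm.surjective.comp hπ
  have hstem : Cfsg.IsStemExtension τ :=
    ⟨hτ, hker ▸ ker_central π hπ hcard hw hwk hw1, by rw [hperf]; exact le_top⟩
  obtain ⟨q, hq⟩ := Cfsg.Lib.HSModel.Cov.multiplier_hs.2 K τ hstem
  have h2 : Nat.card π.ker = 2 := by
    refine le_antisymm ?_ ?_
    · rw [← hker]
      exact (Nat.card_le_card_of_surjective q hq).trans (by simp)
    · rw [← Nat.lt_iff_add_one_le]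
      exact Finite.one_lt_card_iff_nontrivial.2 ⟨⟨⟨w, hwk⟩, 1, fun e => hw1 (congrArg Subtype.val e)⟩⟩
  have hcen : Subgroup.center K = π.ker := by
    refine le_antisymm (fun g hg => ?_) (hker ▸ hstem.2.1)
    rw [MonoidHom.mem_ker]
    refine Subtype.ext (Cfsg.Lib.HSModel.cent_trivial fun p hp => ?_)
    obtain ⟨k, hk⟩ := hπ ⟨p, hp⟩
    have := congrArg π (Subgroup.mem_center_iff.1 hg k)
    rw [map_mul, map_mul, hk] at this
    exact (congrArg Subtype.val this).symm
  refine ⟨by rw [hcen, h2], ?_, fun L hL => ?_⟩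
  · exact ⟨(QuotientGroup.quotientMulEquivOfEq (hcen.trans hker.symm)).trans
      (QuotientGroup.quotientKerEquivOfSurjective τ hτ)⟩
  · have htop : L = ⊤ := by
      rw [eq_top_iff, ← hperf, commutator_def, Subgroup.commutator_le]
      rintro g - h -
      obtain ⟨⟨z₁, l₁⟩, hg⟩ := hL.2 g
      obtain ⟨⟨z₂, l₂⟩, hh⟩ := hL.2 h
      subst hg hh
      have c1 := Subgroup.mem_center_iff.1 z₁.2
      have c2 := Subgroup.mem_center_iff.1 z₂.2
      have e : ⁅(z₁ : K) * (l₁ : K), (z₂ : K) * (l₂ : K)⁆ = ⁅(l₁ : K), (l₂ : K)⁆ := by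
        rw [commutatorElement_def, commutatorElement_def, mul_inv_rev, mul_inv_rev]
        calc (z₁ : K) * l₁ * (z₂ * l₂) * ((l₁ : K)⁻¹ * (z₁ : K)⁻¹) * ((l₂ : K)⁻¹ * (z₂ : K)⁻¹)
            = (z₁ : K) * (l₁ * z₂) * l₂ * (l₁ : K)⁻¹ * (z₁ : K)⁻¹ * (l₂ : K)⁻¹ * (z₂ : K)⁻¹ := by group
          _ = (z₁ : K) * z₂ * ((l₁ * l₂ * (l₁ : K)⁻¹) * (z₁ : K)⁻¹) * (l₂ : K)⁻¹ * (z₂ : K)⁻¹ := by
              rw [c2 l₁]; group
          _ = (z₁ : K) * z₂ * ((z₁ : K)⁻¹ * (l₁ * l₂ * (l₁ : K)⁻¹)) * (l₂ : K)⁻¹ * (z₂ : K)⁻¹ := by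
              rw [Subgroup.mem_center_iff.1 (inv_mem z₁.2)]
          _ = (z₂ : K) * (l₁ * l₂ * (l₁ : K)⁻¹ * (l₂ : K)⁻¹) * (z₂ : K)⁻¹ := by
              rw [c2 (z₁ : K)]; group
          _ = _ := by rw [← c2]; group
      simp only [e]
      exact mul_mem (mul_mem (mul_mem l₁.2 l₂.2) (inv_mem l₁.2)) (inv_mem l₂.2)
    subst htop
    have hb := hL.disjoint
    rw [disjoint_top] at hb
    rw [← hcen, hb, Subgroup.card_bot] at h2
    exact absurd h2 (by norm_num)

end Cfsg.Lib.HNPres
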