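import Cfsg.Agent.HNPres.Bound
import Cfsg.Agent.HNPres.Perm
import Cfsg.Agent.HNPres.Stem

/-!
The group on x, y, z with the relators of the double cover: its even part is the double cover of the Higman-Sims
group, and any map to a group where the square of x survives is injective on it.
-/

set_option autoImplicit false
set_option Elab.async false

namespace Cfsg.Lib.HNPres

open Cfsg.Lib.CosetNames Cfsg.Lib.HNRep

theorem closure_three {G : Type*} [Group G] (S : Setup G) {g : G}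
    (hg : g ∈ Subgroup.closure {S.x, S.y, S.z}) (H : Subgroup G) (hx : S.x ∈ H) (hy : S.y ∈ H)
    (hy' : S.z * S.y * S.z ∈ H) : g ∈ H ∨ g * S.z ∈ H := by
  refine closure_forms (P := fun g => g ∈ H ∨ g * S.z ∈ H) 11 ?_ (Or.inl (one_mem _)) ?_ hg
  · rintro t (rfl | rfl | rfl)
    · rw [show (11 : ℕ) + 1 = 4 * 3 from rfl, pow_mul, S.x_four, one_pow]
    · rw [show (11 : ℕ) + 1 = 6 * 2 from rfl, pow_mul, S.y_six, one_pow]
    · rw [show (11 : ℕ) + 1 = 2 * 6 from rfl, pow_mul, pow_two, S.z_sq, one_pow]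
  · have ez : S.z * S.x * S.z = S.x⁻¹ := eq_inv_of_mul_eq_one_left S.zxzx
    have hz : S.z⁻¹ = S.z := inv_eq_of_mul_eq_one_left S.z_sq
    rintro g t (rfl | rfl | rfl) (h | h)
    · exact Or.inl (mul_mem h hx)
    · refine Or.inr ?_
      have e : g * S.z * (S.z * S.x * S.z) = g * S.x * S.z := by
        calc g * S.z * (S.z * S.x * S.z) = g * (S.z * S.z) * S.x * S.z := by group
          _ = g * S.x * S.z := by rw [S.z_sq, mul_one]
      rw [← e, ez]
      exact mul_mem h (inv_mem hx)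
    · exact Or.inl (mul_mem h hy)
    · refine Or.inr ?_
      have e : g * S.z * (S.z * S.y * S.z) = g * S.y * S.z := by
        calc g * S.z * (S.z * S.y * S.z) = g * (S.z * S.z) * S.y * S.z := by group
          _ = g * S.y * S.z := by rw [S.z_sq, mul_one]
      rw [← e]
      exact mul_mem h hy'
    · exact Or.inr (by rwa [mul_assoc, S.z_sq, mul_one])
    · exact Or.inl h

/-- In a group with these relators in which x, y and the conjugate of y commute, x and y are trivial. -/
theorem abelian_trivial {Q : Type*} [Group Q] {x y z : Q} (h : ∀ r ∈ baseZ, wval (letters x y z) r = 1)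
    (hxy : Commute x y) : x = 1 ∧ y = 1 := by
  have h6 : y ^ 6 = 1 := by simpa [wval, letters, pow_succ, mul_assoc] using h [2,2,2,2,2,2] (by decide)
  have hA : (x⁻¹ * y ^ 2 * x * y ^ 3) ^ 3 = 1 := by
    simpa [wval, letters, pow_succ, mul_assoc] using
      h [1,2,2,0,2,2,2,1,2,2,0,2,2,2,1,2,2,0,2,2,2] (by decide)
  have h8 : (x * y) ^ 8 = 1 := by
    simpa [wval, letters, pow_succ, mul_assoc] using h [0,2,0,2,0,2,0,2,0,2,0,2,0,2,0,2] (by decide)
  have hxy2 : x⁻¹ * y ^ 2 * x = y ^ 2 := by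
    rw [mul_assoc, ← (hxy.pow_right 2).eq, inv_mul_cancel_left]
  rw [hxy2, ← pow_add, ← pow_mul] at hA
  have h3 : y ^ 3 = 1 := by
    have e : y ^ ((2 + 3) * 3) = y ^ 3 := by
      rw [show (2 + 3) * 3 = 6 * 2 + 3 from rfl, pow_add, pow_mul, h6, one_pow, one_mul]
    rwa [e] at hA
  have hw : x * x * y * x * x * y⁻¹ = 1 := by
    simpa [wval, letters, mul_assoc] using h [0, 0, 2, 0, 0, 3] (by decide)
  have hx4 : x ^ 4 = 1 := by
    have e : x * x * y * x * x * y⁻¹ = x ^ 4 := by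
      calc x * x * y * x * x * y⁻¹ = x * x * (y * x ^ 2) * y⁻¹ := by rw [pow_two]; group
        _ = x * x * (x ^ 2 * y) * y⁻¹ := by rw [(hxy.symm.pow_right 2).eq]
        _ = x ^ 4 := by rw [pow_two, pow_succ, pow_succ, pow_succ, pow_one]; group
    rwa [e] at hw
  have hy : y = 1 := by
    rw [hxy.mul_pow, show (8 : ℕ) = 4 * 2 from rfl, pow_mul x, hx4, one_pow, one_mul,
      show (4 : ℕ) * 2 = 6 + 2 from rfl, pow_add, h6, one_mul] at h8
    calc y = y ^ 3 * (y ^ 2)⁻¹ := by group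
      _ = 1 := by rw [h3, h8, inv_one, one_mul]
  refine ⟨?_, hy⟩
  have hz : z * z = 1 := by simpa [wval, letters] using h [4, 4] (by decide)
  have hzx : z * x * z * x = 1 := by simpa [wval, letters, mul_assoc] using h [4, 0, 4, 0] (by decide)
  subst hy
  have hlast : z * (x⁻¹ * x⁻¹ * z * x * x * x) ^ 3 = 1 := by
    simpa [wval, letters, pow_succ, mul_assoc] using
      h [4,3,1,3,1,3,3,3,4,2,2,2,0,2,0,2,0,3,1,3,1,3,3,3,4,2,2,2,0,2,0,2,0,3,1,3,1,3,3,3,4,2,2,2,0,2,0,2,0]
        (by decide)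
  have e1 : x⁻¹ * z = z * x := by
    rw [← eq_inv_of_mul_eq_one_left hzx, mul_assoc, hz, mul_one]
  have e2 : x⁻¹ * x⁻¹ * z * x * x * x = z * x := by
    calc x⁻¹ * x⁻¹ * z * x * x * x = x⁻¹ * (x⁻¹ * z) * (x * x * x) := by group
      _ = x⁻¹ * (z * x) * (x * x * x) := by rw [e1]
      _ = x⁻¹ * z * (x * (x * x * x)) := by group
      _ = z * x * x ^ 4 := by rw [e1]; simp [pow_succ, mul_assoc]
      _ = z * x := by rw [hx4, mul_one]
  have e3 : (z * x) ^ 3 = z * x := by
    rw [pow_succ, pow_two, show z * x * (z * x) = 1 by rw [← mul_assoc]; exact hzx, one_mul]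
  rw [e2, e3, ← mul_assoc, hz, one_mul] at hlast
  exact hlast

end Cfsg.Lib.HNPres
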