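import Cfsg.Agent.HNPres.Words
import Cfsg.Agent.HNRep.Basic

/-!
Detecting non-trivial words in x, y, z by the image of one vector in the representation of degree 133.
-/

set_option autoImplicit false
set_option Elab.async false

namespace Cfsg.Lib.HNPres

open Cfsg.Lib.CosetNames Cfsg.Lib.HNRep

/-- The matrix of a letter. -/
def letMat : ℕ → List ℕ
  | 0 => matX
  | 1 => matXi
  | 2 => matY
  | 3 => matYi
  | 4 => matZ
  | _ => idMat 133

/-- The images of x, y, z in the matrices. -/
def mX : Matˣ := genUnit .x
/-- The image of y. -/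
def mY : Matˣ := genUnit .y
/-- The image of z. -/
def mZ : Matˣ := genUnit .z

/-- The image of a packed vector under a letter. -/
def rstep (v l : ℕ) : ℕ := red 133 (comb v (letMat l))

/-- The image of a packed vector under a word. -/
def rowW (v : ℕ) (w : List ℕ) : ℕ := w.foldl rstep v

/-- The vector of a packed number. -/
def vec (v : ℕ) : Fin 133 → ZMod 11 := fun j => (fld v j.val : ZMod 11)

theorem matOK_letMat : ∀ l : ℕ, matOK 133 (letMat l) = true := by
  intro l
  obtain ⟨h0, h1, h2, h3, h4, -⟩ := ok_data
  match l with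
  | 0 => exact h0
  | 1 => exact h1
  | 2 => exact h2
  | 3 => exact h3
  | 4 => exact h4
  | l + 5 => exact matOK_idMat 133

theorem toMat_letMat : ∀ l : ℕ, toMat 133 (letMat l) = ((letters mX mY mZ l : Matˣ) : Mat)
  | 0 => rfl
  | 1 => rfl
  | 2 => rfl
  | 3 => rfl
  | 4 => rfl
  | _ + 5 => (toMat_idMat 133).trans Units.val_one.symm

theorem vec_step (v l : ℕ) (hv : rowOK 133 v = true) :
    vec (red 133 (comb v (letMat l))) = Matrix.vecMul (vec v) (toMat 133 (letMat l)) := by
  have h := matOK_letMat l
  simp only [matOK, Bool.and_eq_true, beq_iff_eq, List.all_eq_true] at h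
  funext j
  have hc := (fld_comb (letMat l) v j.val (by omega) (fun k => fld_lt k hv)
    (fun r hr k => fld_lt k (h.2 r hr))).2
  rw [vec, fld_red, if_pos j.isLt, ZMod.natCast_mod, hc, Nat.cast_sum]
  simp only [Matrix.vecMul, dotProduct, vec, toMat, Matrix.of_apply]
  refine Fintype.sum_equiv (finCongr h.1) _ _ fun k => ?_
  rw [Nat.cast_mul, finCongr_apply, Fin.val_cast, List.getD_eq_getElem _ _ k.isLt]

theorem rowW_sound : ∀ (w : List ℕ) (v : ℕ), rowOK 133 v = true →
    vec (rowW v w) = Matrix.vecMul (vec v) ((wval (letters mX mY mZ) w : Matˣ) : Mat)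
  | [], v, _ => by
    rw [wval, List.map_nil, List.prod_nil, Units.val_one, Matrix.vecMul_one]; rfl
  | l :: w, v, hv => by
    have e : wval (letters mX mY mZ) (l :: w) = letters mX mY mZ l * wval (letters mX mY mZ) w := by
      simp only [wval, List.map_cons, List.prod_cons]
    rw [e, Units.val_mul, rowW, List.foldl_cons, ← rowW]
    have hs : rowOK 133 (rstep v l) = true := rowOK_red 133 _
    rw [rowW_sound w _ hs, rstep, vec_step v l hv, toMat_letMat, Matrix.vecMul_vecMul]

/-- The test vector. -/
def seed : ℕ := 1

/-- A word moves the test vector. -/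
def moves (w : List ℕ) : Bool :=
  !((List.range 133).all fun j => fld (rowW seed w) j % 11 == fld seed j % 11)

theorem moves_ne {w : List ℕ} (h : moves w = true) : wval (letters mX mY mZ) w ≠ 1 := by
  intro e
  have hs : rowOK 133 seed = true := by decide +kernel
  have hv := rowW_sound w seed hs
  rw [e, Units.val_one, Matrix.vecMul_one] at hv
  refine absurd h ?_
  simp only [moves, Bool.not_eq_true, Bool.not_eq_false', List.all_eq_true, List.mem_range, beq_iff_eq]
  intro j hj
  have := congrFun hv ⟨j, hj⟩
  simpa [vec, ZMod.natCast_eq_natCast_iff'] using this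

theorem fixes_eq {w : List ℕ} (h : moves w = false) :
    Matrix.vecMul (vec seed) ((wval (letters mX mY mZ) w : Matˣ) : Mat) = vec seed := by
  have hs : rowOK 133 seed = true := by decide +kernel
  rw [← rowW_sound w seed hs]
  simp only [moves, Bool.not_eq_false', List.all_eq_true, List.mem_range, beq_iff_eq] at h
  funext j
  simp only [vec, ZMod.natCast_eq_natCast_iff']
  exact h j.val j.isLt

theorem moves_congr {w v : List ℕ} (e : wval (letters mX mY mZ) w = wval (letters mX mY mZ) v)
    (hw : moves w = false) : moves v = false := by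
  have h := fixes_eq hw
  have hs : rowOK 133 seed = true := by decide +kernel
  rw [e, ← rowW_sound v seed hs] at h
  simp only [moves, Bool.not_eq_false', List.all_eq_true, List.mem_range, beq_iff_eq]
  intro j hj
  have := congrFun h ⟨j, hj⟩
  simpa [vec, ZMod.natCast_eq_natCast_iff'] using this

end Cfsg.Lib.HNPres
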