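import Cfsg.Agent.CosetTable.Names

/-!
Words in the letters x, x⁻¹, y, y⁻¹, z for the subgroup on x, y, z of the Harada-Norton presentation.
-/

set_option autoImplicit false

namespace Cfsg.Lib.HNPres

open Cfsg.Lib.CosetNames

/-- The fourth power of x. -/
def wX4 : List ℕ := [0,0,0,0]

/-- A consequence of the relators on x and y. -/
def wK1 : List ℕ := [0,2,0,2,0,2,0,3,3,0,2,0,2,0,2,0,3,3,0,2,0,2,0,2,0,3,3]

/-- A further consequence. -/
def wK2 : List ℕ := [0,2,1,2,2,0,2,1,2,2,0,2,1,2,2,0,2,1,2,2,0,2,1,2,2]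

/-- The relator of order five on the conjugates of the square of y. -/
def wAB : List ℕ := [3,3,1,3,3,0,3,3,1,3,3,0,3,3,1,3,3,0,3,3,1,3,3,0,3,3,1,3,3,0]

/-- The second relator on these conjugates. -/
def wW : List ℕ := [3,3,1,3,3,0,3,3,1,2,2,0,3,3,1,3,3,0,3,3,1,2,2,0,3,3,1,3,3,0,3,3,1,2,2,0,3,3,1,3,3,0,3,3,1,2,2,0]

/-- The third relator on these conjugates. -/
def wT : List ℕ := [3,3,1,2,2,0,3,3,1,2,2,0,3,3,1,2,2,0,3,3,1,2,2,0,3,3,1,2,2,0,3,3,1,2,2,0]

/-- The relators on x, y, z. -/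
def baseZ : List (List ℕ) :=
  [[2,2,2,2,2,2],
   [0,0,2,0,0,3],
   [1,3,0,2,1,3,0,2,1,3,0,2],
   [1,2,2,0,2,2,2,1,2,2,0,2,2,2,1,2,2,0,2,2,2],
   [0,2,0,2,0,2,0,2,0,2,0,2,0,2,0,2],
   [0,2,0,2,2,2,0,2,0,2,2,2,0,2,0,2,2,2,0,2,0,2,2,2],
   [4,4],
   [4,0,4,0],
   [4,2,1,3,3,1,3,1,3,4,2,0,2,0,2,2,0,3,1,1],
   [4,3,1,3,1,3,3,3,4,2,2,2,0,2,0,2,0,3,1,3,1,3,3,3,4,2,2,2,0,2,0,2,0,3,1,3,1,3,3,3,4,2,2,2,0,2,0,2,0]]

/-- Those free of z, with z set trivial and the fourth power of x. -/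
def baseU : List (List ℕ) :=
  [[2,2,2,2,2,2],
   [0,0,2,0,0,3],
   [1,3,0,2,1,3,0,2,1,3,0,2],
   [1,2,2,0,2,2,2,1,2,2,0,2,2,2,1,2,2,0,2,2,2],
   [0,2,0,2,0,2,0,2,0,2,0,2,0,2,0,2],
   [0,2,0,2,2,2,0,2,0,2,2,2,0,2,0,2,2,2,0,2,0,2,2,2],
   wX4,
   [4]]

/-- All words used for the table over x and y. -/
def allU : List (List ℕ) := baseU ++ [wK1, wK2, wAB, wW, wT]

/-- All words used for the table of the group on x, y, z. -/
def allZ : List (List ℕ) := baseZ ++ [wX4, wK1, wK2, wAB, wW, wT]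

/-- The relators on the two conjugates of the square of y. -/
def baseC : List (List ℕ) :=
  [[0,0,0],
   [2,2,2],
   [1,3,1,3,1,3,1,3,1,3],
   [1,3,1,2,1,3,1,2,1,3,1,2,1,3,1,2],
   [1,2,1,2,1,2,1,2,1,2,1,2]]

/-- The five letters. -/
def letters {G : Type*} [Group G] (x y z : G) : ℕ → G
  | 0 => x
  | 1 => x⁻¹
  | 2 => y
  | 3 => y⁻¹
  | 4 => z
  | _ => 1

theorem map_wval {G H : Type*} [Group G] [Group H] (f : G →* H) (im : ℕ → G) (w : List ℕ) :
    f (wval im w) = wval (fun l => f (im l)) w := by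
  simp [wval, map_list_prod, Function.comp_def]

theorem map_letters {G H : Type*} [Group G] [Group H] (f : G →* H) (x y z : G) (l : ℕ) :
    f (letters x y z l) = letters (f x) (f y) (f z) l := by
  rcases l with _ | _ | _ | _ | _ | l <;> simp [letters]

theorem wval_congr {G : Type*} [Group G] {im im' : ℕ → G} {w : List ℕ} (h : ∀ l ∈ w, im l = im' l) :
    wval im w = wval im' w := by rw [wval, wval, List.map_congr_left h]

/-- Each listed relator is a rotation of a base word or of its inverse, or a free cancellation. -/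
def fromBase (C : Cert) (base rs : List (List ℕ)) : Bool :=
  rs.all fun r =>
    ((List.range C.ng).any fun l => r == [l, C.linv l]) ||
    base.any fun b => b.all (fun l => decide (l < C.ng)) && (List.range (b.length + 1)).any fun s =>
      r == b.rotate s || r == (b.reverse.map C.linv).rotate s

theorem fromBase_sound {G : Type*} [Group G] {C : Cert} {im : ℕ → G} (hinv : C.InvOK im)
    {base rs : List (List ℕ)} (h : fromBase C base rs = true) (hb : ∀ b ∈ base, wval im b = 1) :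
    ∀ r ∈ rs, wval im r = 1 := by
  intro r hr
  have hr' := List.all_eq_true.1 h r hr
  simp only [Bool.or_eq_true, List.any_eq_true, beq_iff_eq, Bool.and_eq_true, List.all_eq_true,
    decide_eq_true_eq, List.mem_range] at hr'
  rcases hr' with ⟨l, hl, rfl⟩ | ⟨b, hmem, hlt, s, -, rfl | rfl⟩
  · simp [wval, (hinv l hl).2]
  · exact wval_rotate im (hb b hmem) s
  · exact wval_rotate im (by rw [wval_reverse C im hinv hlt, hb b hmem, inv_one]) s

end Cfsg.Lib.HNPres
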